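import Cfsg.Agent.Omega.IId.Match
import Cfsg.Agent.Omega.IId.Two

/-!
# The standing hypotheses `Hyp K S` of II.d for another Sylow 2-subgroup

* `Hyp.conj : Hyp K S → Hyp K S'`.
-/

set_option autoImplicit false

namespace Cfsg.Agent.Omega.IId

open Subgroup Pointwise Cfsg Cfsg.Agent.ZN.ChoiceBase
open Cfsg.Agent.ZN (o2 zc zl)
open Cfsg.Agent.Omega.MinPar Cfsg.Agent.Omega.Frame Cfsg.Agent.Omega.FFThm Cfsg.Agent.Omega.FrameMulti
open Cfsg.Agent.Omega.FrameLE (AllIn)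
open Cfsg.Agent.Omega.FrameNOFF (CZ)

universe u

variable {G : Type u} [Group G] [Finite G]

omit [Finite G] in
/-- A mutual pair over `S'` gives one over `S`. -/
theorem mutual_cj {S S' : Subgroup G} {P₁ P₂ : Subgroup G} {x y : G} (hS : ZN.ChoiceBase.cj y S = S')
    (h : Mutual S' P₁ P₂ x) : Mutual S (ZN.ChoiceBase.cj y⁻¹ P₁) (ZN.ChoiceBase.cj y⁻¹ P₂) (y⁻¹ * x * y) := by
  have e1 : ZN.ChoiceBase.cj y⁻¹ S' = S := by rw [← hS, cj_inv_cj]
  have e2 : ∀ P, zl S (ZN.ChoiceBase.cj y⁻¹ P) = ZN.ChoiceBase.cj y⁻¹ (zl S' P) := by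
    intro P
    rw [← zl_cj, e1]
  have e3 : ∀ A : Subgroup G, ZN.ChoiceBase.cj (y⁻¹ * x * y) (ZN.ChoiceBase.cj y⁻¹ A) =
      ZN.ChoiceBase.cj y⁻¹ (ZN.ChoiceBase.cj x A) := by
    intro A
    rw [cj_cj, cj_cj]
    congr 1
    group
  have star : ∀ {P}, IsParS S' P → IsParS S (ZN.ChoiceBase.cj y⁻¹ P) := by
    intro P hP
    have := isParS_cj hP y⁻¹
    rwa [e1] at this
  refine ⟨star h.star₁, star h.star₂, ?_, ?_, ?_⟩
  · change _ ≤ normalizer ((ZN.ChoiceBase.cj _ _ : Subgroup G) : Set G)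
    rw [e2, e2, e3, ← cj_normalizer]
    exact cj_mono _ h.le₁
  · change ZN.ChoiceBase.cj _ _ ≤ _
    rw [e2, e2, e3, ← cj_normalizer]
    exact cj_mono _ h.le₂
  · change ⁅_, ZN.ChoiceBase.cj _ _⁆ ≠ ⊥
    rw [e2, e2, e3]
    intro h0
    apply h.ne
    have h1 : ZN.ChoiceBase.cj y⁻¹ ⁅zl S' P₁, ZN.ChoiceBase.cj x (zl S' P₂)⁆ = ⊥ := by
      change Subgroup.map _ _ = _
      rw [Subgroup.map_commutator]
      exact h0
    have h2 := congrArg (ZN.ChoiceBase.cj y) h1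
    rw [cj_cj_inv] at h2
    change ⁅zl S' P₁, ZN.ChoiceBase.cj x (zl S' P₂)⁆ = ⊥
    rw [h2]
    exact Subgroup.map_bot _

/-- **`Hyp K S'` from `Hyp K S`.** -/
theorem Hyp.conj {K : Cls.{u}} {S : Sylow 2 G} (h : Hyp K S) (S' : Sylow 2 G) : Hyp K S' := by
  have : Fact (Nat.Prime 2) := ⟨Nat.prime_two⟩
  obtain ⟨y, hy⟩ := MulAction.exists_smul_eq G S S'
  have hS : ZN.ChoiceBase.cj y (S : Subgroup G) = (S' : Subgroup G) := by
    rw [← hy]; rfl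
  have e1 : ZN.ChoiceBase.cj y⁻¹ (S' : Subgroup G) = (S : Subgroup G) := by rw [← hS, cj_inv_cj]
  refine ⟨h.ctx, h.cls, Two.full_conj h.full, ?_, ?_⟩
  · intro P hP
    have h1 := isParS_cj hP y⁻¹
    rw [e1] at h1
    have h2 := cj_mono y (h.allIn _ h1)
    have e2 : zc (ZN.ChoiceBase.cj y (S : Subgroup G)) = ZN.ChoiceBase.cj y (zc (S : Subgroup G)) :=
      ZN.zc_map _ (MulAut.conj y).injective _
    rw [← zl_cj, cj_cj_inv, hS, ← ZN.ChoiceSit.o2_cj] at h2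
    refine h2.trans_eq ?_
    congr 1
    change ZN.ChoiceBase.cj y (centralizer (zc (S : Subgroup G) : Set G)) = centralizer (zc (S' : Subgroup G) : Set G)
    rw [cj_centralizer, ← e2, hS]
  · intro P₁ P₂ x hm
    obtain ⟨t1, t2⟩ := h.typed _ _ _ (mutual_cj hS hm)
    have k1 := typed_cj t1 y
    have k2 := typed_cj t2 y
    rw [cj_cj_inv, hS] at k1 k2
    exact ⟨k1, k2⟩

end Cfsg.Agent.Omega.IId
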