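import Cfsg.Agent.Omega.IId.FourSide
import Cfsg.Agent.Omega.IId.M4.HypCj
import Cfsg.Agent.Omega.IId.TorOf

/-!
# II.d, CASE 1, `q ≥ 4`: the entry (#16554 (b) and glue)

* `pre M i : PreMod F (fac M i)`, `Nm_stab` : `stab M i` normalises the `SL₂(F)`;
* `Four.syl_fac` : `stab M i` is a Sylow 2-subgroup of `N_G(fac M i)`;
* `Ent` : the data of the unmixed case, `BTS V₁ (pt N)`, `V₂ ≤ CenX V₁ (pt N)`;
* `MixedFalse` : the socket of the mixed case (helper330);
* `entry` : from the hypotheses of `WrMain4` and `MixedFalse` to `Ent`.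
-/

set_option autoImplicit false
set_option linter.unusedSectionVars false

namespace Cfsg.Agent.Omega.IId.FourSide

open Subgroup Cfsg Cfsg.Agent.ZN.ChoiceBase
open Cfsg.Agent.ZN (o2 zc zl)
open Cfsg.Agent.Omega.MinPar Cfsg.Agent.Omega.FFThm Cfsg.Agent.Omega.Frame
open Cfsg.Agent.Lib.SL2Mat
open Cfsg.Agent.Omega.NatPair (ap ap_mul ap_one ap_inv_ap ap_ap_inv exists_ap ap_add NatMod PreMod)
open scoped commutatorElement

universe u

/-! ### The module -/

section pre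

variable {G : Type u} [Group G] {F : Type} [Field F] {S P : Subgroup G} {k : ℕ}

/-- `fac M i` as a module for `SL₂(F)`. -/
noncomputable def pre (M : NatK F S P (zl S P) ⊥ k) (i : Fin k) : PreMod F (fac M i) where
  e x := (exists_fac M i x).choose
  e_add x y := by
    refine ext_fac M (exists_fac M i _).choose_spec.1
      (mul_mem (exists_fac M i x).choose_spec.1 (exists_fac M i y).choose_spec.1) ?_
    rw [M.mul _ (exists_fac M i x).choose_spec.1.1 _ (exists_fac M i y).choose_spec.1.1, Pi.add_apply,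
      (exists_fac M i x).choose_spec.2, (exists_fac M i y).choose_spec.2, (exists_fac M i (x + y)).choose_spec.2]
  e_inj x y h := by
    rw [← (exists_fac M i x).choose_spec.2, ← (exists_fac M i y).choose_spec.2]
    exact congrArg (fun g => M.e g i) h
  mem_iff g := by
    constructor
    · intro hg
      exact ⟨M.e g i, ext_fac M (exists_fac M i _).choose_spec.1 hg (exists_fac M i _).choose_spec.2⟩
    · rintro ⟨x, rfl⟩
      exact (exists_fac M i x).choose_spec.1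
  lift A := by
    obtain ⟨g, hg, hA⟩ := Lns.exists_lift M i A
    refine ⟨g, fun x => ext_fac M (Lns.grp_conj_fac hg (exists_fac M i x).choose_spec.1)
      (exists_fac M i _).choose_spec.1 ?_⟩
    rw [hA _ (exists_fac M i x).choose_spec.1.1, (exists_fac M i x).choose_spec.2,
      (exists_fac M i (ap A x)).choose_spec.2]

theorem pre_e (M : NatK F S P (zl S P) ⊥ k) (i : Fin k) (x : Fin 2 → F) : M.e ((pre M i).e x) i = x :=
  (exists_fac M i x).choose_spec.2

/-- `stab M i` normalises the `SL₂(F)` on `fac M i`. -/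
theorem Nm_stab (hSP : S ≤ P) (M : NatK F S P (zl S P) ⊥ k) (i : Fin k) : ∀ t ∈ stab M i, (pre M i).Nm t := by
  intro t ht h A hA
  obtain ⟨g, hg, hgA⟩ := Lns.exists_lift M i A
  -- `g` and `h` act in the same way
  have hgi : (pre M i).Ind g A := by
    intro x
    refine ext_fac M (Lns.grp_conj_fac hg ((pre M i).e_mem x)) ((pre M i).e_mem _) ?_
    rw [hgA _ ((pre M i).e_mem x).1, pre_e, pre_e]
  have htg : t * g * t⁻¹ ∈ grp M {i} := (mem_normalizer_iff.1 (stab_normalizes_grp M hSP i ht) g).1 hg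
  obtain ⟨B, hB⟩ := Lns.grp_act htg
  refine ⟨B, fun x => ?_⟩
  have htn := stab_normalizes M i ht
  -- `t⁻¹ v t ∈ fac M i`
  obtain ⟨y, hy⟩ := ((pre M i).mem_iff _).1 ((mem_normalizer_iff.1 (inv_mem htn) _).1 ((pre M i).e_mem x))
  rw [inv_inv] at hy
  have e1 : t * h * t⁻¹ * (pre M i).e x * (t * h * t⁻¹)⁻¹ = t * g * t⁻¹ * (pre M i).e x * (t * g * t⁻¹)⁻¹ := by
    calc t * h * t⁻¹ * (pre M i).e x * (t * h * t⁻¹)⁻¹ = t * (h * (t⁻¹ * (pre M i).e x * t) * h⁻¹) * t⁻¹ := by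
          group
      _ = t * (g * (t⁻¹ * (pre M i).e x * t) * g⁻¹) * t⁻¹ := by rw [← hy, hA, hgi]
      _ = t * g * t⁻¹ * (pre M i).e x * (t * g * t⁻¹)⁻¹ := by group
  rw [e1]
  refine ext_fac M (Lns.grp_conj_fac htg ((pre M i).e_mem x)) ((pre M i).e_mem _) ?_
  rw [hB _ ((pre M i).e_mem x).1, pre_e, pre_e]

end pre

/-! ### `T` is a Sylow 2-subgroup of `N_G(V₁)` -/

section syl

variable {G : Type u} [Group G] [Finite G] {F : Type} [Field F] [Finite F] [CharP F 2]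
  {S : Sylow 2 G} {P : Subgroup G} {M : NatK F (S : Subgroup G) P (zl (S : Subgroup G) P) ⊥ 2} {i j : Fin 2}

/-- The line `line M i` is the only subgroup of order `q` of `V₁` which is normalised by `T`. -/
theorem Four.eq_line (h : Four M i) {X : Subgroup G} (hX : X ≤ fac M i) (hc : Nat.card X = Nat.card F)
    (hn : stab M i ≤ normalizer (X : Set G)) : X = line M i := by
  by_cases hle : X ≤ line M i
  · exact Subgroup.eq_of_le_of_card_ge hle (by rw [hc, card_line])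
  obtain ⟨x, hx, hxl⟩ := Set.not_subset.1 hle
  have hx1 : M.e x i 1 ≠ 0 := fun h0 => hxl ((mem_line M).2 ⟨hX hx, h0⟩)
  refine (Subgroup.eq_of_le_of_card_ge (fun r hr => ?_) (by rw [hc, card_line])).symm
  obtain ⟨u, hu, hug, h1⟩ := exists_unip M h.le i (M.e r i 0 / M.e x i 1)
  have h2 : u * x * u⁻¹ ∈ X := (mem_normalizer_iff.1 (hn hu) x).1 hx
  have h3 : r = u * x * u⁻¹ * x⁻¹ := by
    refine ext_fac M (line_le M i hr) (mul_mem (hX h2) (inv_mem (hX hx))) ?_
    rw [M.mul _ (hX h2).1 _ (inv_mem (hX hx).1), Pi.add_apply, e_inv M (hX hx).1, Pi.neg_apply,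
      h1.1 x (hX hx).1 i, Function.update_self]
    apply NatPair.ext2
    · rw [Pi.add_apply, NatPair.ap_zero', up_00, up_01, Pi.neg_apply]
      field_simp
      ring
    · rw [Pi.add_apply, NatPair.ap_one', up_10, up_11, Pi.neg_apply, ((mem_line M).1 hr).2]
      ring
  rw [h3]
  exact mul_mem h2 (inv_mem hx)

/-- **`T` is a Sylow 2-subgroup of `N_G(V₁)`.** -/
theorem Four.syl_fac (h : Four M i) : ¬ 2 ∣ (stab M i).relIndex (normalizer (fac M i : Set G)) := by
  have : Fact (Nat.Prime 2) := ⟨Nat.prime_two⟩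
  obtain ⟨Q, hTQ, hQN, hQ2, hQs⟩ := Half.exists_sylow_le h.T2 (stab_normalizes M i)
  have hQT : Q = stab M i := by
    by_contra hne
    have hlt : stab M i < Q := lt_of_le_of_ne hTQ (Ne.symm hne)
    have hlt' := Lib.GoldschmidtFusion.lt_inf_normalizer hQ2 hlt
    refine hlt'.not_ge (h.le_T (hQ2.to_le inf_le_left) hlt'.le fun t ht => ?_)
    -- `t` normalises `T` and `V₁`, so it normalises the line
    rw [mem_normalizer_iff_cj]
    refine h.eq_line ?_ (by rw [card_cj, card_line]) ?_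
    · intro x hx
      rw [mem_cj_iff] at hx
      have h1 := (mem_normalizer_iff.1 (hQN ht.1) _).1 (line_le M i hx)
      have e : t * (t⁻¹ * x * t) * t⁻¹ = x := by group
      rwa [e] at h1
    · have h1 := cj_mono t (stab_normalizes_line M h.le i)
      rw [cj_normalizer, cj_eq_of_mem_normalizer ht.2] at h1
      exact h1
  rwa [hQT] at hQs

end syl

/-! ### The entry -/

/-- The data of the unmixed case: `T = stab M i`, `V₁ = fac M i`, `R = line M i`, `V₂ = fac M j`. -/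
structure Ent (K : Cls.{u}) {G : Type u} [Group G] [Finite G] (S : Sylow 2 G) (P : Subgroup G) {F : Type} [Field F]
    [Finite F] [CharP F 2] (M : NatK F (S : Subgroup G) P (zl (S : Subgroup G) P) ⊥ 2) (i j : Fin 2)
    (N : NatMod F (fac M i)) : Prop where
  hyp : Hyp K S
  four : Four M i
  ne : i ≠ j
  /-- the coordinates -/
  e : ∀ x, M.e (N.e x) i = x
  line : N.line ![1, 0] = line M i
  /-- `T` is a Sylow 2-subgroup of `N_G(V₁)` -/
  syl : ¬ 2 ∣ (stab M i).relIndex (normalizer (fac M i : Set G))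
  bts : BTwo.BTS (fac M i) (BTwo.pt N)
  cen : fac M j ≤ BTwo.CenX (fac M i) (BTwo.pt N)

/-- The unmixed case. -/
theorem exists_ent {K : Cls.{u}} {G : Type u} [Group G] [Finite G] {S : Sylow 2 G} {P : Subgroup G} {F : Type}
    [Field F] [Finite F] [CharP F 2] {M : NatK F (S : Subgroup G) P (zl (S : Subgroup G) P) ⊥ 2} {i j : Fin 2}
    (hH : Hyp K S) (h : Four M i) (hij : i ≠ j)
    (hne : ∃ g ∈ normalizer (line M i : Set G), ∃ v ∈ fac M i, ∃ w ∈ fac M i,
      v * (g * w * g⁻¹) ≠ g * w * g⁻¹ * v) : ∃ N : NatMod F (fac M i), Ent K S P M i j N := by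
  obtain ⟨g, hg, hne⟩ := hne
  obtain ⟨N, hN, b, hc⟩ := h.bts hij (pre_e M i) h.syl_fac (Nm_stab h.le M i) hg hne
  have hNe : ∀ x, M.e (N.e x) i = x := fun x => by rw [hN, pre_e]
  refine ⟨N, hH, h, hij, hNe, ?_, h.syl_fac, b, hc⟩
  rw [← pre_line (pre_e M i)]
  ext y
  rw [NatMod.mem_line, PreMod.mem_line]
  simp only [hN]

/-- The socket of the mixed case (`WrMain4`, section 3; helper330): `⟨V₁^{N_G(R)}⟩` and `⟨V₁'^{N_G(R)}⟩` are not both
abelian. -/
def MixedFalse : Prop :=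
  ∀ (G : Type u) [Group G] [Finite G] (S S' : Sylow 2 G) (P P' : Subgroup G) (F F' : Type) [Field F] [Finite F]
    [CharP F 2] [Field F'] [Finite F'] [CharP F' 2]
    (M : NatK F (S : Subgroup G) P (zl (S : Subgroup G) P) ⊥ 2)
    (M' : NatK F' (S' : Subgroup G) P' (zl (S' : Subgroup G) P') ⊥ 2) (i i' : Fin 2), Four M i → Four M' i' →
    line M i = line M' i' → (∃ v ∈ fac M i, ∃ w ∈ fac M' i', v * w ≠ w * v) →
    (∀ g ∈ normalizer (line M i : Set G), ∀ v ∈ fac M i, ∀ w ∈ fac M i, v * (g * w * g⁻¹) = g * w * g⁻¹ * v) →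
    (∀ g ∈ normalizer (line M i : Set G), ∀ v ∈ fac M' i', ∀ w ∈ fac M' i',
      v * (g * w * g⁻¹) = g * w * g⁻¹ * v) → False

/-- **The entry**: from the hypotheses of `WrMain4` to the unmixed case. -/
theorem entry (hmix : MixedFalse.{u}) {K : Cls.{u}} {G : Type u} [Group G] [Finite G] {S S' : Sylow 2 G}
    (hH : Hyp K S) {P P' : Subgroup G} (hp : Pair S S' P P') {F F' : Type} [Field F] [Finite F] [CharP F 2]
    [Field F'] [Finite F'] [CharP F' 2] {k' : ℕ} (M : NatK F (S : Subgroup G) P (zl (S : Subgroup G) P) ⊥ 2)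
    (M' : NatK F' (S' : Subgroup G) P' (zl (S' : Subgroup G) P') ⊥ k') (hk' : 1 ≤ k') (hk2 : k' ≤ 2) {i : Fin 2}
    (hi : ⁅zl (S : Subgroup G) P, zl (S' : Subgroup G) P'⁆ = line M i)
    (hd : ¬ 2 ∣ (stab M i).relIndex (normalizer (line M i : Set G))) (h4 : 4 ≤ Nat.card F) :
    ∃ (S₀ : Sylow 2 G) (P₀ : Subgroup G) (F₀ : Type) (_ : Field F₀) (_ : Finite F₀) (_ : CharP F₀ 2)
      (M₀ : NatK F₀ (S₀ : Subgroup G) P₀ (zl (S₀ : Subgroup G) P₀) ⊥ 2) (i₀ j₀ : Fin 2) (N : NatMod F₀ (fac M₀ i₀)),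
      Ent K S₀ P₀ M₀ i₀ j₀ N := by
  obtain ⟨t, t'⟩ := hH.typed' hp
  obtain ⟨rfl, -⟩ := SideOf.partner hH.ctx.char2 hp t.noOver t'.noOver M M' hk' hk2 hi hd
  obtain ⟨h, i', hl, -, h', hne⟩ := four_of hH hp M M' hi hd h4
  obtain ⟨j, hij⟩ : ∃ j : Fin 2, i ≠ j := ⟨i + 1, by omega⟩
  obtain ⟨j', hij'⟩ : ∃ j' : Fin 2, i' ≠ j' := ⟨i' + 1, by omega⟩
  by_cases h1 : ∃ g ∈ normalizer (line M i : Set G), ∃ v ∈ fac M i, ∃ w ∈ fac M i,
      v * (g * w * g⁻¹) ≠ g * w * g⁻¹ * v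
  · obtain ⟨N, hN⟩ := exists_ent hH h hij h1
    exact ⟨S, P, F, _, ‹_›, ‹_›, M, i, j, N, hN⟩
  by_cases h2 : ∃ g ∈ normalizer (line M' i' : Set G), ∃ v ∈ fac M' i', ∃ w ∈ fac M' i',
      v * (g * w * g⁻¹) ≠ g * w * g⁻¹ * v
  · obtain ⟨N, hN⟩ := exists_ent (hH.conj S') h' hij' h2
    exact ⟨S', P', F', _, ‹_›, ‹_›, M', i', j', N, hN⟩
  exfalso
  push Not at h1 h2
  rw [← hl] at h2
  exact hmix G S S' P P' F F' M M' i i' h h' hl hne h1 h2

/-- **`WrMain4`** from the mixed case and the unmixed case. -/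
theorem wrMain4_of {K : Cls.{u}} (hmix : MixedFalse.{u})
    (hent : ∀ (G : Type u) [Group G] [Finite G] (S : Sylow 2 G) (P : Subgroup G) (F : Type) [Field F] [Finite F]
      [CharP F 2] (M : NatK F (S : Subgroup G) P (zl (S : Subgroup G) P) ⊥ 2) (i j : Fin 2)
      (N : NatMod F (fac M i)), ¬ Ent K S P M i j N) : WrMain4 K := by
  intro G _ _ S S' hH P P' hp _ F F' _ _ _ _ _ _ k' M M' hk' hk2 i hi hd h4
  obtain ⟨S₀, P₀, F₀, _, _, _, M₀, i₀, j₀, N, hN⟩ := entry hmix hH hp M M' hk' hk2 hi hd h4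
  exact hent G S₀ P₀ F₀ M₀ i₀ j₀ N hN

end Cfsg.Agent.Omega.IId.FourSide
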