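import Cfsg.Agent.Omega.IId.M4.Swap
import Cfsg.Agent.Omega.IId.M4.Entry

/-!
# WrMain4, section 6 for `Ent`

`Chain M i G₀` : what the chain delivers about `G₀` (besides `EndIn`); `FK` : the K-facts for `F₄(q)` and `T = stab M i`
(`X_a = line M i`); `SpK` : the K-facts for `Sp_{2n}(q)`.

* `exists_vec` : the vector `v ∈ V₂ ∩ Z(T)` of `EndIn`, with `C_{G₀}(v) ≰ N_G(R)`;
* `Ent.not_sp` : `Sp_{2n}(q)` is impossible;
* `Ent.graph` : `F₄(q)`: `s ∈ N_G(G₀)`, and `s` swaps `X_a`, `X_b`; `Q_a`, `Q_b`; `U_a`, `U_b`; `C_a`, `C_b`.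
-/

set_option autoImplicit false
set_option linter.unusedSectionVars false

namespace Cfsg.Agent.Omega.IId.M4

open Subgroup Cfsg Cfsg.Agent.ZN.ChoiceBase
open Cfsg.Agent.ZN (o2 zc zl)
open Cfsg.Agent.Omega.MinPar Cfsg.Agent.Omega.FFThm Cfsg.Agent.Omega.Frame
open Cfsg.Agent.Omega.All.HOne (Side)
open Cfsg.Agent.Omega.NatPair (ap NatMod)
open Cfsg.Agent.Omega.IId.FourSide

universe u

/-! ### The K-facts -/

/-- `G₀ = F₄(q)`, `T ≤ N_G(G₀)` a 2-group, `{X_a, X_b}` = the long and the short root group in `Z(T ∩ G₀)`. -/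
structure FK {G : Type u} [Group G] (T G₀ Xa Xb Ca Cb Qa Qb Ua Ub : Subgroup G) : Prop where
  side_a : Side T (normalizer (G₀ : Set G)) Ca Xa Qa Ua
  side_b : Side T (normalizer (G₀ : Set G)) Cb Xb Qb Ub
  C_Qa : Ca ≤ normalizer (Qa : Set G)
  C_Qb : Cb ≤ normalizer (Qb : Set G)
  Ca_eq : Ca = G₀ ⊓ centralizer (Xa : Set G)
  Cb_eq : Cb = G₀ ⊓ centralizer (Xb : Set G)
  /-- `Z(U) = X_a X_b`, `U = T ∩ G₀` -/
  zU : ∀ z ∈ T ⊓ G₀, T ⊓ G₀ ≤ centralizer ({z} : Set G) → ∃ x ∈ Xa, ∃ y ∈ Xb, z = x * y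
  mix : ∀ x ∈ Xa, ∀ y ∈ Xb, x ≠ 1 → y ≠ 1 → G₀ ⊓ centralizer ({x * y} : Set G) ≤ normalizer (Xa : Set G)
  max_b : ∀ M ≤ G₀, G₀ ⊓ normalizer (Xb : Set G) < M → M = G₀

/-- `G₀ = Sp_{2n}(q)`, `n ≥ 3`: `X_a` short, `X_b` long; `C_b = C_{G₀}(X_b)`, `Q_b = O₂(C_b)` abelian. -/
structure SpK {G : Type u} [Group G] (T G₀ Xa Xb Ca Cb Qa Qb Ua : Subgroup G) : Prop where
  side_a : Side T (normalizer (G₀ : Set G)) Ca Xa Qa Ua
  C_Qa : Ca ≤ normalizer (Qa : Set G)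
  zU : ∀ z ∈ T ⊓ G₀, T ⊓ G₀ ≤ centralizer ({z} : Set G) → ∃ x ∈ Xa, ∃ y ∈ Xb, z = x * y
  mix : ∀ x ∈ Xa, ∀ y ∈ Xb, x ≠ 1 → y ≠ 1 → G₀ ⊓ centralizer ({x * y} : Set G) ≤ normalizer (Xa : Set G)
  T_C : T ≤ normalizer (Cb : Set G)
  C_X : Cb ≤ centralizer (Xb : Set G)
  Q_max : ∀ K : Subgroup G, IsPGroup 2 K → K ≤ Cb → Cb ≤ normalizer (K : Set G) → K ≤ Qb
  fld : ∀ t ∈ T, (∀ c ∈ Cb, t * c * t⁻¹ * c⁻¹ ∈ Qb) → t ∈ Qb
  abel : Qb ≤ centralizer (Qb : Set G)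

/-! ### The chain -/

section chain

variable {G : Type u} [Group G] [Finite G] {F : Type} [Field F] [Finite F] [CharP F 2] {S : Sylow 2 G}
  {P : Subgroup G} {K : Cls.{u}} {M : NatK F (S : Subgroup G) P (zl (S : Subgroup G) P) ⊥ 2} {i j : Fin 2}
  {N : NatMod F (fac M i)}

/-- What the chain delivers about `G₀`. -/
structure Chain (M : NatK F (S : Subgroup G) P (zl (S : Subgroup G) P) ⊥ 2) (i : Fin 2) (N : NatMod F (fac M i))
    (G₀ : Subgroup G) : Prop where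
  simple : IsSimpleGroup ↥G₀
  X_le : BTwo.XX (fac M i) (BTwo.pt N) ≤ G₀
  Q_le : o2 (normalizer (line M i : Set G)) ≤ G₀
  N_R : normalizer (line M i : Set G) ≤ normalizer (G₀ : Set G)

/-- The Sylow hypothesis. -/
theorem _root_.Cfsg.Agent.Omega.IId.FourSide.Ent.sylN (h : Ent K S P M i j N) : SylN (S : Subgroup G) (stab M i) (line M i) where
  le := stab_le M i
  card := ((h.four.two h.ne).card).le
  max _ hK hTK hKX := h.four.le_T hK hTK hKX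

omit [Finite G] in
theorem swap_norm_T {T S' : Subgroup G} (hle : T ≤ S')
    (h2 : ∀ a ∈ S', ∀ b ∈ S', a ∉ T → b ∉ T → a⁻¹ * b ∈ T) {s : G} (hs : s ∈ S') :
    s ∈ normalizer (T : Set G) :=
  mem_normalizer_of_inv (fun _ hb => Two.conj_mem_of_two hle h2 hs hb) fun b hb => by
    have h3 := Two.conj_mem_of_two hle h2 (inv_mem hs) hb
    rwa [inv_inv] at h3

/-- `s` normalises `T`, `s² ∈ T`. -/
theorem _root_.Cfsg.Agent.Omega.IId.FourSide.Ent.norm_T (h : Ent K S P M i j N) {s : G} (hs : s ∈ (S : Subgroup G)) (hn : s ∉ stab M i) :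
    s ∈ normalizer (stab M i : Set G) ∧ s * s ∈ stab M i := by
  have h2 := Two.two_cosets (stab_le M i) (h.four.two h.ne).card
  refine ⟨swap_norm_T (stab_le M i) h2 hs, ?_⟩
  have h3 := h2 s⁻¹ (inv_mem hs) s hs (fun h4 => hn (inv_mem_iff.1 h4)) hn
  rwa [inv_inv] at h3

/-- the point `R = line M i` -/
theorem _root_.Cfsg.Agent.Omega.IId.FourSide.Ent.exists_pt (h : Ent K S P M i j N) : ∃ k₀, BTwo.pt N k₀ = line M i :=
  ⟨⟨N.line ![1, 0], _, vec_ne, rfl⟩, h.line⟩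

/-- `N_G(R)`-invariant subgroups over `W_R` normalised by `L₁` contain `X₁`. -/
theorem _root_.Cfsg.Agent.Omega.IId.FourSide.Ent.gen (h : Ent K S P M i j N) (L : Subgroup G) (hW : BTwo.WW (fac M i) (line M i) ≤ L)
    (hL : grp M {i} ≤ normalizer (L : Set G)) : BTwo.XX (fac M i) (BTwo.pt N) ≤ L := by
  refine iSup_le fun k => ?_
  obtain ⟨A, hA⟩ := BtsOf.exists_cj N (w₀ := ![1, 0]) vec_ne k
  obtain ⟨g, hg, hgA⟩ := Lns.exists_lift M i A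
  have hind : N.Ind g A := by
    intro x
    have hx : N.e x ∈ fac M i := (N.mem_iff _).2 ⟨x, rfl⟩
    have hy : N.e (ap A x) ∈ fac M i := (N.mem_iff _).2 ⟨_, rfl⟩
    refine ext_fac M (Lns.grp_conj_fac hg hx) hy ?_
    rw [hgA _ hx.1, h.e, h.e]
  have h1 := hA g hind
  rw [h.line] at h1
  obtain ⟨k₀, hk₀⟩ := h.exists_pt
  rw [← hk₀] at h1 hW
  rw [← h.bts.toBT.cj_WW h1]
  rw [BTwo.cj_le_iff]
  exact fun x hx => (mem_normalizer_iff.1 (hL hg) x).1 (hW hx)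

/-- `X₁` moves `R`. -/
theorem _root_.Cfsg.Agent.Omega.IId.FourSide.Ent.X_not (h : Ent K S P M i j N) :
    ¬ BTwo.XX (fac M i) (BTwo.pt N) ≤ normalizer (line M i : Set G) := by
  intro h0
  obtain ⟨k₀, hk₀⟩ := h.exists_pt
  obtain ⟨k, hk, -⟩ := h.bts.third k₀ k₀
  obtain ⟨x, hx, h1⟩ := h.bts.toBT.trans_X_one k₀ k
  rw [hk₀] at h1
  have h2 : cj x (line M i) = line M i := cj_eq_of_mem_normalizer (h0 hx)
  have h3 : BTwo.pt N k = BTwo.pt N k₀ := by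
    rw [← h1, hk₀]
    exact h2
  have h4 := h.bts.R_inf k k₀ hk
  rw [h3, inf_idem] at h4
  exact h.bts.R_ne k₀ h4

/-- The vector `v = s r s⁻¹ ∈ V₂` of `EndIn`. -/
theorem _root_.Cfsg.Agent.Omega.IId.FourSide.Ent.vec (h : Ent K S P M i j N) {G₀ : Subgroup G} (c : Chain M i N G₀) {s r : G}
    (hs : s ∈ (S : Subgroup G)) (hn : s ∉ stab M i) (hr : r ∈ line M i) (hrz : r ∈ zc (stab M i)) (hr1 : r ≠ 1) :
    s * r * s⁻¹ ∈ stab M i ⊓ G₀ ∧ stab M i ⊓ G₀ ≤ centralizer ({s * r * s⁻¹} : Set G) ∧ s * r * s⁻¹ ∉ line M i ∧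
      ¬ G₀ ⊓ centralizer ({s * r * s⁻¹} : Set G) ≤ normalizer (line M i : Set G) := by
  have htwo := h.four.two h.ne
  obtain ⟨hsT, -⟩ := h.norm_T hs hn
  have h1 : s * r * s⁻¹ ∈ fac M j := htwo.sw1 s hs hn r (line_le M i hr)
  obtain ⟨h2, h3⟩ := SideOf.other h.four.c2T h.four.par M h.ne h.four.syl
  have h4 : s * r * s⁻¹ ∈ G₀ := c.Q_le (h2 h1)
  have h5 : s * r * s⁻¹ ≠ 1 := by
    intro h5
    apply hr1
    have e : r = s⁻¹ * (s * r * s⁻¹) * s := by group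
    rw [e, h5]; group
  refine ⟨⟨htwo.V2So h1, h4⟩, ?_, ?_, ?_⟩
  · rintro t ⟨ht, -⟩
    rw [mem_centralizer_singleton_iff]
    have h6 : s⁻¹ * t * s ∈ stab M i := by
      have := (mem_normalizer_iff.1 (inv_mem hsT) t).1 ht
      rwa [inv_inv] at this
    have h7 := (mem_zc.1 hrz).2.2 _ h6
    calc t * (s * r * s⁻¹) = s * ((s⁻¹ * t * s) * r) * s⁻¹ := by group
      _ = s * r * s⁻¹ * t := by rw [h7]; group
  · intro h6
    exact h5 (htwo.inf _ (line_le M i h6) h1)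
  · intro h6
    apply h.X_not
    refine le_trans (le_inf c.X_le ?_) h6
    intro x hx
    rw [mem_centralizer_singleton_iff]
    exact mem_centralizer_iff.1 (h.cen h1) x hx

/-- `Q = O₂(N_G(R)) ≤ Q_a`. -/
theorem _root_.Cfsg.Agent.Omega.IId.FourSide.Ent.Q_le (h : Ent K S P M i j N) {Y Ca Qa Ua : Subgroup G} (D : Side (stab M i) Y Ca (line M i) Qa Ua)
    (hCQ : Ca ≤ normalizer (Qa : Set G)) : o2 (normalizer (line M i : Set G)) ≤ Qa := by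
  obtain ⟨z, -, hz, hz1⟩ := h.sylN.exists_z D
  rw [← h.sylN.o2_eq D hCQ h.four.c2T hz hz1]
  refine MinSimple.VModule.le_o2 ?_ (MinSimple.VModule.o2_isPGroup _) ?_
  · refine (SideOf.o2_cent_line h.four.par M h.four.syl).trans (centralizer_le ?_)
    intro w hw
    rw [Set.mem_singleton_iff] at hw
    rw [hw]; exact hz
  · exact (h.sylN.cen_le_X D hCQ h.four.c2T hz hz1).trans (MinSimple.VModule.le_normalizer_o2 _)

/-- `Sp_{2n}(q)` is impossible. -/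
theorem _root_.Cfsg.Agent.Omega.IId.FourSide.Ent.not_sp (h : Ent K S P M i j N) {G₀ Xb Ca Cb Qa Qb Ua : Subgroup G} (c : Chain M i N G₀)
    (k : SpK (stab M i) G₀ (line M i) Xb Ca Cb Qa Qb Ua) : False := by
  obtain ⟨s, hs, hn⟩ := Two.exists_not_mem (stab_le M i) (h.four.two h.ne).card
  obtain ⟨r, hrz, hr, hr1⟩ := h.sylN.exists_z k.side_a
  obtain ⟨h1, h2, h3, h4⟩ := h.vec c hs hn hr hrz hr1
  have h5 := mem_other k.zU k.mix h1 h2 h3 h4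
  exact swap_false h.sylN k.side_a k.C_Qa h.four.c2T (h.norm_T hs hn).1 hr hr1 h5 k.C_X k.T_C k.Q_max k.fld k.abel

/-- **`F₄(q)`**: `s` normalises `G₀` and swaps the two sides. -/
theorem _root_.Cfsg.Agent.Omega.IId.FourSide.Ent.graph (h : Ent K S P M i j N) {G₀ Xb Ca Cb Qa Qb Ua Ub : Subgroup G} (c : Chain M i N G₀)
    (k : FK (stab M i) G₀ (line M i) Xb Ca Cb Qa Qb Ua Ub) {s : G} (hs : s ∈ (S : Subgroup G))
    (hn : s ∉ stab M i) :
    s ∈ normalizer (G₀ : Set G) ∧ cj s (line M i) = Xb ∧ cj s Xb = line M i ∧ cj s Qa = Qb ∧ cj s Qb = Qa ∧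
      cj s Ua = Ub ∧ cj s Ub = Ua ∧ cj s Ca = Cb ∧ cj s Cb = Ca := by
  obtain ⟨hsT, hs2⟩ := h.norm_T hs hn
  obtain ⟨r, hrz, hr, hr1⟩ := h.sylN.exists_z k.side_a
  obtain ⟨h1, h2, h3, h4⟩ := h.vec c hs hn hr hrz hr1
  have h5 := mem_other k.zU k.mix h1 h2 h3 h4
  have hG := h.four.c2T
  have hsG : s ∈ normalizer (G₀ : Set G) := by
    refine swap_mem h.sylN k.side_a k.C_Qa hG hsT hr hr1 h5 k.side_b c.simple c.N_R k.max_b
      (by rw [k.Ca_eq]; exact inf_le_left) (by rw [k.Cb_eq]; exact inf_le_left) c.X_le h.X_not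
      (W := BTwo.WW (fac M i) (line M i)) (L₁ := grp M {i}) (fun L hW hL => h.gen L hW hL) ?_ ?_
    · obtain ⟨k₀, hk₀⟩ := h.exists_pt
      have h6 := h.bts.toBT.W_le_Q k₀
      rw [hk₀] at h6
      exact h6.trans (h.Q_le k.side_a k.C_Qa)
    · -- `L₂ ≤ C_G(V₁) ≤ N_G(R)`
      refine le_trans ?_ c.N_R
      intro x hx
      rw [mem_cj] at hx
      have h7 : x ∈ centralizer (line M i : Set G) := by
        rw [mem_centralizer_iff]
        intro v hv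
        have h8 : s⁻¹ * v * s ∈ fac M j := by
          have := (h.four.two h.ne).sw1 s⁻¹ (inv_mem hs) (fun h9 => hn (inv_mem_iff.1 h9)) v (line_le M i hv)
          rwa [inv_inv] at this
        have h9 := (h.four.two h.ne).L12 _ hx _ h8
        calc v * x = s * ((s⁻¹ * v * s) * (s⁻¹ * x * s)) * s⁻¹ := by group
          _ = s * ((s⁻¹ * x * s) * (s⁻¹ * v * s)) * s⁻¹ := by rw [h9]
          _ = x * v := by group
      exact centralizer_le_normalizer _ h7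
  refine ⟨hsG, ?_, ?_, ?_, ?_, ?_, ?_, ?_, ?_⟩
  · exact swap_X h.sylN k.side_a k.C_Qa hG hsT hr hr1 h5 k.side_b
  · exact swap_X' h.sylN k.side_a k.C_Qa hG hsT hr hr1 h5 k.side_b hs2
  · exact swap_eq h.sylN k.side_a k.C_Qa hG hsT hr hr1 h5 k.side_b
  · exact swap_Q' h.sylN k.side_a k.C_Qa hG hsT hr hr1 h5 k.side_b hs2
  · exact swap_U h.sylN k.side_a k.C_Qa hG hsT hr hr1 h5 k.side_b
  · exact swap_U' h.sylN k.side_a k.C_Qa hG hsT hr hr1 h5 k.side_b hs2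
  · exact swap_C h.sylN k.side_a k.C_Qa hG hsT hr hr1 h5 k.side_b k.Ca_eq k.Cb_eq hsG
  · exact swap_C' h.sylN k.side_a k.C_Qa hG hsT hr hr1 h5 k.side_b hs2 k.Ca_eq k.Cb_eq hsG

end chain

end Cfsg.Agent.Omega.IId.M4
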