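import Cfsg.Agent.Omega.MixOne.Plug
import Cfsg.Agent.Omega.Mix.OfFrameTwo
import Cfsg.Agent.Omega.IId.M4.TwoT
import Cfsg.Agent.Omega.IId.LemZ
import Cfsg.Agent.Omega.IId.M4.Entry

/-!
# `WrMain4`, section 3 (helper441 #16554): the mixed case is impossible

* `MixedT M₁ M₂ R T` : `MixOne.MixedW` with a 2-group `T ≤ N_G(R)` of odd index instead of a Sylow 2-subgroup of `G`,
  NL is a field;
* `MixedT.cen_le` : `C_G(O₂(N_G(R))) ≤ R` if `|F₁| ≥ 4`;
* `mixedFalse : FourSide.MixedFalse` (NL = LEMMA Z on both sides; `V₂ ≤ Z(O₂(N_G(R)))`).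
-/

set_option autoImplicit false
set_option linter.unusedSectionVars false

namespace Cfsg.Agent.Omega.IId.M4

open Subgroup Cfsg.Agent.Lib.SL2Mat Cfsg.Agent.Omega.BTwo Cfsg.Agent.Omega.Mix Cfsg.Agent.Omega.MixOne
open Cfsg.Agent.Omega.NatPair (dt dt_add dt_smul exists_smul_of_dt exists_comb ap ap_smul ap_add ap_zero' ap_one'
  ap_mul ap_inv_ap ap_ap_inv ap_one exists_ap exists_ap_e ap_up_e ext2)

variable {G : Type*} [Group G]

/-- `MixOne.MixedW` over a 2-group `T` which is a Sylow 2-subgroup of `N_G(R)` only -/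
structure MixedT {F₁ F₂ : Type*} [Field F₁] [Field F₂] {V₁ V₂ N₁ N₂ : Subgroup G} (M₁ : RMod F₁ V₁ N₁)
    (M₂ : RMod F₂ V₂ N₂) (R T : Subgroup G) : Prop where
  line₁ : ∃ w, w ≠ 0 ∧ R = M₁.line w
  line₂ : ∃ w, w ≠ 0 ∧ R = M₂.line w
  T2 : IsPGroup 2 T
  TN₁ : T ≤ N₁
  TN₂ : T ≤ N₂
  TR : T ≤ normalizer (R : Set G)
  odd : ¬ 2 ∣ T.relIndex (normalizer (R : Set G))
  char : ∀ K : Subgroup G, IsPGroup 2 K → K ≠ ⊥ → Char2 (normalizer (K : Set G))
  comm₁ : ∀ a ∈ LL V₁ R R, ∀ b ∈ LL V₁ R R, a * b = b * a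
  comm₂ : ∀ a ∈ LL V₂ R R, ∀ b ∈ LL V₂ R R, a * b = b * a
  ne : ∃ a ∈ LL V₁ R R, ∃ b ∈ LL V₂ R R, a * b ≠ b * a
  nl : ∀ K : Subgroup G, IsPGroup 2 K → N₁ ≤ normalizer (K : Set G) → N₂ ≤ normalizer (K : Set G) →
    normalizer (R : Set G) ≤ normalizer (K : Set G) → K = ⊥

namespace MixedT

variable {F₁ F₂ : Type*} [Field F₁] [Field F₂] {V₁ V₂ N₁ N₂ : Subgroup G} {M₁ : RMod F₁ V₁ N₁}
  {M₂ : RMod F₂ V₂ N₂} {R T : Subgroup G}

theorem symm (m : MixedT M₁ M₂ R T) : MixedT M₂ M₁ R T where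
  line₁ := m.line₂
  line₂ := m.line₁
  T2 := m.T2
  TN₁ := m.TN₂
  TN₂ := m.TN₁
  TR := m.TR
  odd := m.odd
  char := m.char
  comm₁ := m.comm₂
  comm₂ := m.comm₁
  ne := by
    obtain ⟨a, ha, b, hb, h⟩ := m.ne
    exact ⟨b, hb, a, ha, fun h1 => h h1.symm⟩
  nl := fun K hK h1 h2 h3 => m.nl K hK h2 h1 h3

section base

variable (m : MixedT M₁ M₂ R T)
include m

theorem RV : R ≤ V₁ := by
  obtain ⟨w, -, hR⟩ := m.line₁
  rw [hR]
  exact M₁.line_le w

theorem R_ne : R ≠ ⊥ := by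
  obtain ⟨w, hw, hR⟩ := m.line₁
  exact M₁.pt_ne ⟨R, w, hw, hR⟩

variable [CharP F₁ 2]

theorem R_pGroup : IsPGroup 2 R := fun v => ⟨1, by
  rw [pow_one, pow_two]
  exact Subtype.ext (M₁.sq (m.RV v.2))⟩

variable [Finite G]

theorem R_le_QQ : R ≤ QQ R :=
  le_O2_of_normal le_normalizer m.R_pGroup fun _ hg _ ha => conj_mem_of_normalizer hg ha

theorem QQ_le_T : QQ R ≤ T := MinSimple.VModule.o2_le_of_sylow m.T2 m.odd

theorem QQ_le_N : QQ R ≤ N₁ := by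
  exact m.QQ_le_T.trans m.TN₁

variable [Finite F₁]

theorem QQ_le_UW {w : Fin 2 → F₁} (hw : w ≠ 0) (hR : R = M₁.line w) : QQ R ≤ M₁.UW w := by
  refine M₁.lin_of_torus hw m.QQ_le_N ?_ (O2_isPGroup _) ?_
  · rw [← hR]; exact O2_le _
  · intro g _ hg x hx
    rw [← hR] at hg
    exact conj_mem_of_normalizer (le_normalizer_O2 _ hg) hx

/-- **(1)** `V₁ ≤ O₂(N_G(R))` -/
theorem V_le_QQ : V₁ ≤ QQ R := by
  obtain ⟨w, hw, hR⟩ := m.line₁
  intro v hv
  have hvR : ∀ r ∈ R, v * r = r * v := fun r hr => M₁.comm hv (m.RV hr)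
  have hvR' : ∀ r ∈ R, v * r * v⁻¹ ∈ R := fun r hr => by
    rw [hvR r hr, mul_inv_cancel_right]; exact hr
  refine Mix.stab_le m.R_le_QQ (m.char R m.R_pGroup m.R_ne) (mem_normalizer_of_conj hvR') hvR ?_
  intro y hy
  have h1 := M₁.UW_comm hw (m.QQ_le_UW hw hR hy) (inv_mem hv)
  rw [← hR] at h1
  have h2 := hvR' _ h1
  have e : v * (y * v⁻¹ * y⁻¹ * v⁻¹⁻¹) * v⁻¹ = v * y * v⁻¹ * y⁻¹ := by group
  rwa [e] at h2

theorem C_le_QQ : LL V₁ R R ≤ QQ R := by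
  refine Mix.LL_le fun g hg => ?_
  intro x hx
  have h1 := conj_mem_of_normalizer (le_normalizer_O2 _ (cj_eq_self_iff.1 hg)) (m.V_le_QQ (mem_cj.1 hx))
  have e : g * (g⁻¹ * x * g) * g⁻¹ = x := by group
  rwa [e] at h1

theorem QC {g b : G} (hg : g ∈ QQ R) (hb : b ∈ LL V₁ R R) : g * b * g⁻¹ * b⁻¹ ∈ R := by
  obtain ⟨w, hw, hR⟩ := m.line₁
  let D : Subgroup G :=
    { carrier := {a | a ∈ normalizer (R : Set G) ∧ ∀ x ∈ QQ R, x * a * x⁻¹ * a⁻¹ ∈ R}
      one_mem' := ⟨one_mem _, fun x _ => by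
        have : x * 1 * x⁻¹ * 1⁻¹ = 1 := by group
        rw [this]; exact one_mem _⟩
      mul_mem' := by
        rintro a b ⟨ha, ha1⟩ ⟨hb, hb1⟩
        refine ⟨mul_mem ha hb, fun x hx => ?_⟩
        have e : x * (a * b) * x⁻¹ * (a * b)⁻¹ = (x * a * x⁻¹ * a⁻¹) * (a * (x * b * x⁻¹ * b⁻¹) * a⁻¹) := by group
        rw [e]
        exact mul_mem (ha1 x hx) (conj_mem_of_normalizer ha (hb1 x hx))
      inv_mem' := by
        rintro a ⟨ha, ha1⟩
        refine ⟨inv_mem ha, fun x hx => ?_⟩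
        have e : x * a⁻¹ * x⁻¹ * a⁻¹⁻¹ = a⁻¹ * (x * a * x⁻¹ * a⁻¹)⁻¹ * a := by group
        rw [e]
        exact conj_inv_mem_of_normalizer ha (inv_mem (ha1 x hx)) }
  have h1 : LL V₁ R R ≤ D := by
    refine Mix.LL_le fun h hh => ?_
    have hhR := cj_eq_self_iff.1 hh
    intro a ha
    refine ⟨O2_le _ (m.C_le_QQ (cj_le_LL hh ha)), fun x hx => ?_⟩
    have h2 := M₁.UW_comm hw (m.QQ_le_UW hw hR (conj_inv_mem_of_normalizer (le_normalizer_O2 _ hhR) hx))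
      (mem_cj.1 ha)
    rw [← hR] at h2
    have h3 := conj_mem_of_normalizer hhR h2
    have e : h * (h⁻¹ * x * h * (h⁻¹ * a * h) * (h⁻¹ * x * h)⁻¹ * (h⁻¹ * a * h)⁻¹) * h⁻¹ = x * a * x⁻¹ * a⁻¹ := by
      group
    rwa [e] at h3
  exact (h1 hb).2 g hg

end base

section both

variable [Finite G] [Finite F₁] [Finite F₂] [CharP F₁ 2] [CharP F₂ 2] (m : MixedT M₁ M₂ R T)
include m

/-- a mutual partner of `V₁` of type 2 on `R` -/
theorem exists_partner : ∃ g ∈ normalizer (R : Set G), RMutual V₁ (cj g V₂) N₁ (cj g N₂) := by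
  by_contra hcon
  have key : ∀ g ∈ normalizer (R : Set G), ∀ v ∈ V₁, ∀ w ∈ cj g V₂, v * w = w * v := by
    intro g hg v hv w hw
    by_contra hvw
    refine hcon ⟨g, hg, ?_, ?_, v, hv, w, hw, hvw⟩
    · exact (cj_le_LL (cj_eq_self_iff.2 hg)).trans (m.symm.C_le_QQ.trans m.QQ_le_N)
    · have h1 := cj_mono (g := g) m.symm.QQ_le_N
      rw [cj_QQ, cj_eq_self_iff.2 hg] at h1
      exact m.V_le_QQ.trans h1
  obtain ⟨a, ha, b, hb, hab⟩ := m.ne
  apply hab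
  have h1 : LL V₂ R R ≤ centralizer (V₁ : Set G) := by
    refine Mix.LL_le fun g hg => ?_
    intro w hw
    rw [mem_centralizer_iff]
    exact fun v hv => key g (cj_eq_self_iff.1 hg) v hv w hw
  have h2 : LL V₁ R R ≤ centralizer (LL V₂ R R : Set G) := by
    refine Mix.LL_le fun g hg => ?_
    intro x hx
    rw [mem_centralizer_iff]
    intro y hy
    have h3 : g⁻¹ * y * g ∈ LL V₂ R R :=
      conj_inv_mem_of_normalizer (normalizer_le_LL V₂ R R (cj_eq_self_iff.1 hg)) hy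
    have h4 := mem_centralizer_iff.1 (h1 h3) _ (mem_cj.1 hx)
    calc y * x = g * (g⁻¹ * y * g * (g⁻¹ * x * g)) * g⁻¹ := by group
      _ = g * (g⁻¹ * x * g * (g⁻¹ * y * g)) * g⁻¹ := by rw [h4]
      _ = x * y := by group
  exact (mem_centralizer_iff.1 (h2 ha) b hb).symm

/-- `|F₁| = |F₂|` -/
theorem card_eq : Nat.card F₁ = Nat.card F₂ := by
  obtain ⟨g, hg, h⟩ := m.exists_partner
  exact (pair M₁ (M₂.conj g) h).1

/-- `W₂(R)` induces the full root group on `V₁` -/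
theorem full {w : Fin 2 → F₁} (hw : w ≠ 0) (hR : R = M₁.line w) : M₁.Full (LL V₂ R R) w := by
  obtain ⟨g, hg, h⟩ := m.exists_partner
  obtain ⟨-, w₁, w', hq, hq', hl, -⟩ := pair M₁ (M₂.conj g) h
  have h1 : R = M₁.line w₁ := by
    refine Subgroup.eq_of_le_of_card_ge ?_ ?_
    · rw [← hl]
      refine le_inf m.RV ?_
      have h2 := cj_mono (g := g) m.symm.RV
      rwa [cj_eq_self_iff.2 hg] at h2
    · rw [M₁.card_line hq.ne, hR, M₁.card_line hw]
  have h2 : M₁.line w = M₁.line w₁ := by rw [← hR, h1]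
  obtain ⟨c, hc⟩ := (M₁.line_eq_iff hw).1 h2
  have hc0 : c ≠ 0 := by
    rintro rfl
    rw [zero_smul] at hc
    exact hw hc
  have h3 : M₁.Full (cj g V₂) w₁ := hq.full
  rw [hc]
  exact (h3.mono (cj_le_LL (cj_eq_self_iff.2 hg))).smul hc0


theorem atR {w : Fin 2 → F₁} (hw : w ≠ 0) (hR : R = M₁.line w) : AtR M₁ V₂ R w where
  ne := hw
  line := hR
  R_le := m.symm.RV
  UW := m.symm.C_le_QQ.trans (m.QQ_le_UW hw hR)
  full := m.full hw hR
  comm := fun _ hc _ hb => m.symm.QC (m.C_le_QQ hc) hb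
  comm₁ := m.comm₁
  sq₁ := sq_of_comm_LL m.comm₁ fun _ hv => M₁.sq hv
  comm₂ := m.comm₂
  sq₂ := sq_of_comm_LL m.comm₂ fun _ hv => M₂.sq hv

theorem sideW : SideW V₁ (pt M₁) (fun i => LL V₂ R (pt M₁ i)) (fun i => LL V₁ R (pt M₁ i)) := by
  obtain ⟨w, hw, hR⟩ := m.line₁
  exact (m.atR hw hR).sideW


theorem two : ∃ (i : Pt M₁) (j : Pt M₂), pt M₁ i = R ∧ pt M₂ j = R ∧
      TwoT V₁ V₂ (pt M₁) (fun i => LL V₂ R (pt M₁ i)) (fun i => LL V₁ R (pt M₁ i)) (pt M₂)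
        (fun i => LL V₁ R (pt M₂ i)) (fun i => LL V₂ R (pt M₂ i)) i j T := by
  obtain ⟨w, hw, hR⟩ := m.line₁
  obtain ⟨w', hw', hR'⟩ := m.line₂
  refine ⟨⟨R, w, hw, hR⟩, ⟨R, w', hw', hR'⟩, rfl, rfl, ?_⟩
  exact
    { s₁ := m.sideW
      s₂ := m.symm.sideW
      hR := rfl
      hB := rfl
      hC := rfl
      ch := m.char R m.R_pGroup m.R_ne
      NL := fun K hK k1 k2 k3 => m.nl K hK (M₁.le_ST.trans k1) (M₂.le_ST.trans k2) k3
      SV₁ := m.TN₁.trans M₁.le_ST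
      SV₂ := m.TN₂.trans M₂.le_ST
      SR := m.TR
      odd := m.odd
      gen₁ := fun K hK => Mix.LL_le fun g hg => hK g (cj_eq_self_iff.1 hg)
      gen₂ := fun K hK => Mix.LL_le fun g hg => hK g (cj_eq_self_iff.1 hg) }

/-- **`C_G(O₂(N_G(R))) ≤ R`** -/
theorem cen_le (h4 : 4 ≤ Nat.card F₁) : centralizer (QQ R : Set G) ≤ R := by
  obtain ⟨i, j, hi, hj, t⟩ := m.two
  obtain ⟨w, hw, hR⟩ := m.line₁
  obtain ⟨w', hw', hR'⟩ := m.line₂
  obtain ⟨c, hc0, hc1⟩ := exists_ne_zero_one h4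
  obtain ⟨c', hc0', hc1'⟩ := exists_ne_zero_one (by rw [← m.card_eq]; exact h4 : 4 ≤ Nat.card F₂)
  have h5 := t.YY_eq (by rw [hi]; exact (m.atR hw hR).exists_torus hc0 hc1)
    (by rw [hj]; exact (m.symm.atR hw' hR').exists_torus hc0' hc1')
  intro x hx
  rw [← hi, ← h5, mem_YY]
  rw [mem_centralizer_iff] at hx
  constructor
  · intro b hb
    rw [hi] at hb
    exact (hx b (m.symm.C_le_QQ hb)).symm
  · intro c hc
    rw [hi] at hc
    exact (hx c (m.C_le_QQ hc)).symm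

end both

end MixedT

/-! ### `RMod` from `PreMod` -/

section pre

open Cfsg.Agent.Omega.NatPair (PreMod)

variable {F : Type*} [Field F] {V : Subgroup G}

/-- the elements of `N_G(V)` which normalise the `SL₂(F)` -/
def nmG (N : PreMod F V) : Subgroup G where
  carrier := {g | g ∈ normalizer (V : Set G) ∧ N.Nm g ∧ N.Nm g⁻¹}
  one_mem' := by
    refine ⟨one_mem _, fun h A hA => ⟨A, ?_⟩, fun h A hA => ⟨A, ?_⟩⟩
    · rwa [one_mul, inv_one, mul_one]
    · rwa [inv_one, one_mul, inv_one, mul_one]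
  mul_mem' := by
    rintro a b ⟨a1, a2, a3⟩ ⟨b1, b2, b3⟩
    refine ⟨mul_mem a1 b1, fun h A hA => ?_, fun h A hA => ?_⟩
    · obtain ⟨B, hB⟩ := b2 h A hA
      obtain ⟨C, hC⟩ := a2 _ B hB
      refine ⟨C, ?_⟩
      have e : a * b * h * (a * b)⁻¹ = a * (b * h * b⁻¹) * a⁻¹ := by group
      rwa [e]
    · obtain ⟨B, hB⟩ := a3 h A hA
      obtain ⟨C, hC⟩ := b3 _ B hB
      refine ⟨C, ?_⟩
      have e : (a * b)⁻¹ * h * (a * b)⁻¹⁻¹ = b⁻¹ * (a⁻¹ * h * a⁻¹⁻¹) * b⁻¹⁻¹ := by group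
      rwa [e]
  inv_mem' := by
    rintro a ⟨a1, a2, a3⟩
    exact ⟨inv_mem a1, a3, by rwa [inv_inv]⟩

theorem mem_nmG {N : PreMod F V} {g : G} : g ∈ nmG N ↔ g ∈ normalizer (V : Set G) ∧ N.Nm g ∧ N.Nm g⁻¹ := Iff.rfl

variable [Finite G]

theorem ind_mem_nmG {N : PreMod F V} {g : G} {A : Matrix.SpecialLinearGroup (Fin 2) F} (hg : N.Ind g A) :
    g ∈ nmG N := by
  refine ⟨mem_normalizer_of_conj fun v hv => ?_, NatPair.PreMod.Nm.of_ind N hg, ?_⟩
  · obtain ⟨x, rfl⟩ := (N.mem_iff v).1 hv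
    rw [hg]
    exact N.e_mem _
  · exact NatPair.PreMod.Nm.of_ind N (hg.inv N)

/-- `RMod` from `PreMod` -/
def toRMod (N : PreMod F V) : RMod F V (nmG N) where
  e := N.e
  e_add := N.e_add
  e_inj := N.e_inj
  mem_iff := N.mem_iff
  le := fun _ h => h.1
  cent := by
    intro c hc
    have h1 : N.Ind c 1 := fun x => by
      rw [ap_one, ← mem_centralizer_iff.1 hc _ (N.e_mem x), mul_inv_cancel_right]
    exact ind_mem_nmG h1
  lift' := by
    intro A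
    obtain ⟨g, hg⟩ := N.lift A
    exact ⟨g, ind_mem_nmG (N := N) hg, hg⟩
  norm := fun g hg h A hA => hg.2.1 h A hA

theorem toRMod_line (N : PreMod F V) (w : Fin 2 → F) : (toRMod N).line w = N.line w := by
  ext g
  rw [RMod.mem_line, PreMod.mem_line]
  rfl

end pre

/-! ### The mixed case -/

section mixed

open Cfsg.Agent.Omega.IId.FourSide
open Cfsg.Agent.ZN (zl)
open Cfsg.Agent.Omega.FFThm (NatK)

variable {G : Type*} [Group G] [Finite G] {F : Type} [Field F] [Finite F] [CharP F 2]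
  {S : Sylow 2 G} {P : Subgroup G} {M : NatK F (S : Subgroup G) P (zl (S : Subgroup G) P) ⊥ 2} {i j : Fin 2}

theorem stab_le_nmG (h : Four M i) : stab M i ≤ nmG (pre M i) := fun t ht =>
  ⟨stab_normalizes M i ht, Nm_stab h.le M i t ht, Nm_stab h.le M i _ (inv_mem ht)⟩

theorem grp_le_nmG (i : Fin 2) : grp M {i} ≤ nmG (pre M i) := by
  intro g hg
  obtain ⟨B, hB⟩ := Lns.grp_act hg
  refine ind_mem_nmG (A := B) fun x => ?_
  refine ext_fac M (Lns.grp_conj_fac hg ((pre M i).e_mem x)) ((pre M i).e_mem _) ?_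
  rw [hB _ ((pre M i).e_mem x).1, pre_e, pre_e]

theorem other_le_nmG (h : Four M i) (hij : i ≠ j) : grp M {j} ≤ nmG (pre M i) := by
  intro g hg
  apply (toRMod (pre M i)).cent
  rw [mem_centralizer_iff]
  exact fun v hv => ((h.two hij).L21 g hg v hv).symm

/-- LEMMA Z for `N_G(K)`, one side. -/
theorem fac_le_center (h : Four M i) (hij : i ≠ j) {K : Subgroup G} (hK : IsPGroup 2 K) (hK1 : K ≠ ⊥)
    (hN : nmG (pre M i) ≤ normalizer (K : Set G)) :
    fac M i ≤ ZN.o2 (normalizer (K : Set G)) ⊓ centralizer (ZN.o2 (normalizer (K : Set G)) : Set G) := by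
  have h' := h.swap hij
  have hst : stab M i = stab M j := stab_eq M h.le hij
  refine (LemZ.lemZ_normalizer h.c2T (h.two hij) (line_le M i) (line_le M j) (stab_normalizes_line M h.le i) ?_
    (fun U hU hTU hUR => h.le_T hU hTU hUR) ?_ hK hK1 ((stab_le_nmG h).trans hN)
    ((grp_le_nmG i).trans hN) ((other_le_nmG h hij).trans hN)).2.1
  · rw [hst]
    exact stab_normalizes_line M h.le j
  · intro U hU hTU hUR
    rw [hst] at hTU ⊢
    exact h'.le_T hU hTU hUR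

/-- commuting conjugates -/
theorem LL_comm {V R : Subgroup G} (h : ∀ g ∈ normalizer (R : Set G), ∀ v ∈ V, ∀ w ∈ V,
    v * (g * w * g⁻¹) = g * w * g⁻¹ * v) : ∀ a ∈ LL V R R, ∀ b ∈ LL V R R, a * b = b * a := by
  have h1 : LL V R R ≤ centralizer (LL V R R : Set G) := by
    refine Mix.LL_le fun g hg => ?_
    rw [Subgroup.le_centralizer_iff]
    refine Mix.LL_le fun k hk => ?_
    intro x hx
    rw [mem_centralizer_iff]
    intro y hy
    rw [mem_cj] at hx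
    rw [SetLike.mem_coe, mem_cj] at hy
    have h2 := h (g⁻¹ * k) (mul_mem (inv_mem (cj_eq_self_iff.1 hg)) (cj_eq_self_iff.1 hk)) _ hy _ hx
    calc y * x = g * (g⁻¹ * y * g * (g⁻¹ * k * (k⁻¹ * x * k) * (g⁻¹ * k)⁻¹)) * g⁻¹ := by group
      _ = g * (g⁻¹ * k * (k⁻¹ * x * k) * (g⁻¹ * k)⁻¹ * (g⁻¹ * y * g)) * g⁻¹ := by rw [h2]
      _ = x * y := by group
  intro a ha b hb
  exact (mem_centralizer_iff.1 (h1 ha) b hb).symm

/-- conjugacy of subgroups which are Sylow 2-subgroups of `N` -/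
theorem exists_cj_eq {T T' N : Subgroup G} (hT : T ≤ N) (hT' : T' ≤ N) (h2 : IsPGroup 2 T) (h2' : IsPGroup 2 T')
    (ho : ¬ 2 ∣ T.relIndex N) (ho' : ¬ 2 ∣ T'.relIndex N) : ∃ k ∈ N, cj k T' = T := by
  have : Fact (Nat.Prime 2) := ⟨Nat.prime_two⟩
  have a1 : IsPGroup 2 (T.subgroupOf N) := h2.comap_of_injective N.subtype N.subtype_injective
  have a2 : IsPGroup 2 (T'.subgroupOf N) := h2'.comap_of_injective N.subtype N.subtype_injective
  obtain ⟨n, hn⟩ := MulAction.exists_smul_eq N (a2.toSylow ho') (a1.toSylow ho)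
  have h3 : ∀ x : N, x ∈ T.subgroupOf N ↔ n⁻¹ * x * n ∈ T'.subgroupOf N := by
    intro x
    have e1 : x ∈ (a1.toSylow ho : Sylow 2 N) ↔ x ∈ T.subgroupOf N := Iff.rfl
    have e2 : n⁻¹ * x * n ∈ (a2.toSylow ho' : Sylow 2 N) ↔ n⁻¹ * x * n ∈ T'.subgroupOf N := Iff.rfl
    rw [← e1, ← e2, ← hn]
    constructor
    · intro hx
      have h4 := Subgroup.mem_pointwise_smul_iff_inv_smul_mem.1 hx
      rw [← map_inv, MulAut.smul_def, MulAut.conj_apply, inv_inv] at h4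
      exact h4
    · intro hx
      refine Subgroup.mem_pointwise_smul_iff_inv_smul_mem.2 ?_
      rw [← map_inv, MulAut.smul_def, MulAut.conj_apply, inv_inv]
      exact hx
  refine ⟨n, n.2, ?_⟩
  ext x
  rw [mem_cj]
  constructor
  · intro hx
    have hxN : x ∈ N := by
      have h4 := mul_mem (mul_mem n.2 (hT' hx)) (inv_mem n.2)
      have e : (n : G) * ((n : G)⁻¹ * x * n) * (n : G)⁻¹ = x := by group
      rwa [e] at h4
    exact mem_subgroupOf.1 ((h3 ⟨x, hxN⟩).2 (mem_subgroupOf.2 hx))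
  · intro hx
    exact mem_subgroupOf.1 ((h3 ⟨x, hT hx⟩).1 (mem_subgroupOf.2 hx))

end mixed

universe u

open Cfsg.Agent.Omega.IId.FourSide in
/-- **The socket of the mixed case.** -/
theorem mixedFalse : MixedFalse.{u} := by
  intro G _ _ S S' P P' F F' _ _ _ _ _ _ M M' i i' h h' hl hne h1 h2
  obtain ⟨j, hij⟩ : ∃ j : Fin 2, i ≠ j := ⟨i + 1, by omega⟩
  obtain ⟨j', hij'⟩ : ∃ j' : Fin 2, i' ≠ j' := ⟨i' + 1, by omega⟩
  set R := line M i with hRdef
  have hfact : Fact (Nat.Prime 2) := ⟨Nat.prime_two⟩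
  -- a common Sylow 2-subgroup
  have hT' : stab M' i' ≤ normalizer (R : Set G) := by
    rw [hl]; exact stab_normalizes_line M' h'.le i'
  have hT : stab M i ≤ normalizer (R : Set G) := stab_normalizes_line M h.le i
  obtain ⟨k, hk, hkT⟩ : ∃ k ∈ normalizer (R : Set G), cj k (stab M' i') = stab M i := by
    refine exists_cj_eq hT hT' h.T2 h'.T2 h.syl ?_
    rw [hl]; exact h'.syl
  have hkR : cj k R = R := cj_eq_self_iff.2 hk
  let M₁ := toRMod (pre M i)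
  let M₂ : RMod F' (cj k (fac M' i')) (cj k (nmG (pre M' i'))) := (toRMod (pre M' i')).conj k
  have hM₂ : ∀ w, M₂.line w = cj k ((toRMod (pre M' i')).line w) := fun w => (toRMod (pre M' i')).conj_line k w
  have eLL : LL (cj k (fac M' i')) R R = LL (fac M' i') R R := by
    have e1 := LL_conj k (fac M' i') R R
    rwa [hkR] at e1
  have m : MixedT M₁ M₂ R (stab M i) := by
    refine ⟨⟨![1, 0], vec_ne, ?_⟩, ⟨![1, 0], vec_ne, ?_⟩, h.T2, stab_le_nmG h, ?_, hT, h.syl, ?_, LL_comm h1, ?_, ?_, ?_⟩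
    · rw [toRMod_line, pre_line (pre_e M i)]
    · rw [hM₂, toRMod_line, pre_line (pre_e M' i'), ← hl, hkR]
    · rw [← hkT]
      exact cj_mono (stab_le_nmG h')
    · exact fun K hK hK1 => char2_normalizer h.c2T hK hK1
    · rw [eLL]
      exact LL_comm h2
    · rw [eLL]
      obtain ⟨v, hv, w, hw, hvw⟩ := hne
      exact ⟨v, V_le_LL _ _ hv, w, V_le_LL _ _ hw, hvw⟩
    · intro K hK k1 k2 k3
      by_contra hK1
      have hk' : k ∈ normalizer (K : Set G) := k3 hk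
      have k4 : nmG (pre M' i') ≤ normalizer (K : Set G) := by
        intro x hx
        have h3 := k2 (conj_mem_cj (g := k) hx)
        have h4 := mul_mem (mul_mem (inv_mem hk') h3) hk'
        have e : k⁻¹ * (k * x * k⁻¹) * k = x := by group
        rwa [e] at h4
      have h3 := fac_le_center h hij hK hK1 k1
      have h4 := fac_le_center h' hij' hK hK1 k4
      obtain ⟨v, hv, w, hw, hvw⟩ := hne
      exact hvw (mem_centralizer_iff.1 (mem_inf.1 (h4 hw)).2 v (mem_inf.1 (h3 hv)).1)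
  have h5 := m.cen_le h.q4
  have h6 : fac M j ≤ R := by
    refine le_trans ?_ h5
    rw [Subgroup.le_centralizer_iff]
    exact (SideOf.other h.c2T h.par M hij h.syl).2
  have h7 := (h.two hij).big2
  have h8 : fac M j = ⊥ := by
    rw [eq_bot_iff]
    intro x hx
    exact mem_bot.2 ((h.two hij).inf x (line_le M i (h6 hx)) hx)
  rw [h8, card_bot] at h7
  omega

end Cfsg.Agent.Omega.IId.M4
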