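import Cfsg.Agent.Omega.IId.M4.Graph
import Cfsg.Agent.Omega.All.FFourG
import Cfsg.Agent.Omega.HOneEnd.EndIn

/-!
# The unmixed case of `WrMain4` (assembly)

Sockets:
* `ChainM4 K` : the chain of `Same4` over `T = stab M i`, `R = line M i`: `EndIn T G₀ U R v` and `Chain`;
* `IdM4` : THEOREM ID: `EndIn T G₀ U R v` implies `SpK` (`Sp_{2n}(q)`, `n ≥ 3`) or `IsFFour` (`F₄(q)`).

`noEnt` : `FFThm.Stmt`, `ChainM4 K`, `IdM4` imply that `Ent K S P M i j N` is impossible (`IId.NoEnt K`).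
-/

set_option autoImplicit false
set_option linter.unusedSectionVars false

namespace Cfsg.Agent.Omega.IId.M4

open Subgroup Cfsg Cfsg.Agent.ZN.ChoiceBase
open Cfsg.Agent.ZN (o2 zc zl)
open Cfsg.Agent.Omega.MinPar Cfsg.Agent.Omega.FFThm Cfsg.Agent.Omega.Frame
open Cfsg.Agent.Omega.All.HOne (Side FFourG)
open Cfsg.Agent.Omega.NatPair (ap NatMod)
open Cfsg.Agent.Omega.IId.FourSide
open Cfsg.Agent.Omega.HOneEnd (EndIn)

universe u

/-- The chain for `Ent`. -/
def ChainM4 (K : Cls.{u}) : Prop :=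
  ∀ (G : Type u) [Group G] [Finite G] (S : Sylow 2 G) (P : Subgroup G) (F : Type) [Field F] [Finite F]
    [CharP F 2] (M : NatK F (S : Subgroup G) P (zl (S : Subgroup G) P) ⊥ 2) (i j : Fin 2)
    (N : NatMod F (fac M i)), Ent K S P M i j N →
      ∃ (G₀ U : Subgroup G) (v : G), EndIn (stab M i) G₀ U (line M i) v ∧ Chain M i N G₀

/-- What is used of `G₀ = F₄(q)` and the root group `R`: the facts `FK` for the 2-group `T`, and `FFourG` for every
2-group `S ≥ T` normalising `G₀` but not `R`, with `S ∩ N_G(R)` Sylow in `N_G(R)`. -/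
structure IsFFour {G : Type u} [Group G] (T G₀ R : Subgroup G) : Prop where
  fk : ∃ Xb Ca Cb Qa Qb Ua Ub : Subgroup G, FK T G₀ R Xb Ca Cb Qa Qb Ua Ub
  ffg : ∀ S : Subgroup G, IsPGroup 2 S → T ≤ S → S ≤ normalizer (G₀ : Set G) →
    (∀ T' : Subgroup G, IsPGroup 2 T' → T' ≤ normalizer (R : Set G) →
      Nat.card T' ≤ Nat.card ↥(S ⊓ normalizer (R : Set G))) →
    (∃ t ∈ S, t ∉ normalizer (R : Set G)) →
    ∃ Cs Cl Xl Qs Ql Us Ul : Subgroup G, FFourG S (S ⊓ normalizer (R : Set G)) (S ⊓ G₀)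
      (normalizer (G₀ : Set G)) Cs Cl R Xl Qs Ql Us Ul

/-- THEOREM ID in the form of `WrMain4`. -/
def IdM4 : Prop :=
  ∀ (G : Type u) [Group G] [Finite G] (T G₀ U R : Subgroup G) (v : G), EndIn T G₀ U R v →
    (∃ Xb Ca Cb Qa Qb Ua : Subgroup G, SpK T G₀ R Xb Ca Cb Qa Qb Ua) ∨ IsFFour T G₀ R

section main

variable {G : Type u} [Group G] [Finite G] {F : Type} [Field F] [Finite F] [CharP F 2] {S : Sylow 2 G}
  {P : Subgroup G} {K : Cls.{u}} {M : NatK F (S : Subgroup G) P (zl (S : Subgroup G) P) ⊥ 2} {i j : Fin 2}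
  {N : NatMod F (fac M i)}

/-- `F₄(q)` is impossible. -/
theorem not_ffour (hFF : FFThm.Stmt.{u}) (h : Ent K S P M i j N) {G₀ U : Subgroup G} {v : G}
    (e : EndIn (stab M i) G₀ U (line M i) v) (c : Chain M i N G₀) (f : IsFFour (stab M i) G₀ (line M i)) : False := by
  have hfact : Fact (Nat.Prime 2) := ⟨Nat.prime_two⟩
  obtain ⟨Xb, Ca, Cb, Qa, Qb, Ua, Ub, k⟩ := f.fk
  have hcard := (h.four.two h.ne).card
  have hTS : stab M i ≤ (S : Subgroup G) := stab_le M i
  have h2 := Two.two_cosets hTS hcard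
  obtain ⟨s, hs, hn⟩ := Two.exists_not_mem hTS hcard
  obtain ⟨hsG, -⟩ := h.graph c k hs hn
  obtain ⟨r, hrz, hr, hr1⟩ := h.sylN.exists_z k.side_a
  have hsr : s * r * s⁻¹ ∉ line M i := (h.vec c hs hn hr hrz hr1).2.2.1
  have hTR : stab M i ≤ normalizer (line M i : Set G) := stab_normalizes_line M h.four.le i
  have hsR : s ∉ normalizer (line M i : Set G) := fun h0 => hsr ((mem_normalizer_iff.1 h0 r).1 hr)
  -- every element of `S` lies in `T` or in `sT`
  have hcos : ∀ t ∈ (S : Subgroup G), t ∉ stab M i → s⁻¹ * t ∈ stab M i := fun t ht ht1 => h2 s hs t ht hn ht1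
  have hSG : (S : Subgroup G) ≤ normalizer (G₀ : Set G) := by
    intro t ht
    by_cases ht1 : t ∈ stab M i
    · exact e.S_G₀ ht1
    · have e1 : t = s * (s⁻¹ * t) := by group
      rw [e1]
      exact mul_mem hsG (e.S_G₀ (hcos t ht ht1))
  have hST : (S : Subgroup G) ⊓ normalizer (line M i : Set G) = stab M i := by
    refine le_antisymm ?_ (le_inf hTS hTR)
    rintro t ⟨ht, htR⟩
    by_contra ht1
    apply hsR
    have e1 : s = t * (s⁻¹ * t)⁻¹ := by group
    rw [e1]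
    exact mul_mem htR (inv_mem (hTR (hcos t ht ht1)))
  have hsyl : ∀ T' : Subgroup G, IsPGroup 2 T' → T' ≤ normalizer (line M i : Set G) →
      Nat.card T' ≤ Nat.card ↥((S : Subgroup G) ⊓ normalizer (line M i : Set G)) := by
    intro T' hT' hle
    rw [hST]
    exact Nat.le_of_dvd Nat.card_pos (SideOf.card_dvd_of hTR h.four.syl hT' hle)
  obtain ⟨Cs, Cl, Xl, Qs, Ql, Us, Ul, D⟩ := f.ffg S S.isPGroup' hTS hSG hsyl ⟨s, hs, hsR⟩
  have htop := D.top hFF h.four.c2T h.hyp.allIn h.hyp.full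
  -- `G₀ = G`
  have hsim := h.hyp.ctx.simple
  have hnorm : G₀.Normal := normalizer_eq_top_iff.mp htop
  have hG₀ : G₀ = ⊤ := hnorm.eq_bot_or_eq_top.resolve_left fun h0 => by
    have h1 := c.simple
    rw [h0] at h1
    obtain ⟨⟨x, y, hxy⟩⟩ := h1.toNontrivial
    exact hxy (Subsingleton.elim x y)
  -- `T = U` is a Sylow 2-subgroup of `G`
  have hU : stab M i = U := by
    have h1 := e.S_inf
    rwa [hG₀, inf_top_eq] at h1
  have hodd := e.odd
  rw [← hU, hG₀, relIndex_top_right, ← Nat.not_even_iff_odd, even_iff_two_dvd] at hodd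
  apply hodd
  have h3 : (stab M i).relIndex (S : Subgroup G) = 2 := by
    have h4 := Half.card_mul_relIndex hTS
    rw [hcard] at h4
    have h5 : 0 < Nat.card (stab M i) := Nat.card_pos
    rw [mul_comm 2] at h4
    exact Nat.eq_of_mul_eq_mul_left h5 h4
  exact (dvd_of_eq h3.symm).trans (relIndex_dvd_index_of_le hTS)

end main

/-- **The unmixed case of `WrMain4`** (literally `IId.NoEnt K`). -/
theorem noEnt {K : Cls.{u}} (hFF : FFThm.Stmt.{u}) (hch : ChainM4 K) (hid : IdM4.{u}) :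
    ∀ (G : Type u) [Group G] [Finite G] (S : Sylow 2 G) (P : Subgroup G) (F : Type) [Field F] [Finite F]
      [CharP F 2] (M : NatK F (S : Subgroup G) P (zl (S : Subgroup G) P) ⊥ 2) (i j : Fin 2)
      (N : NatMod F (fac M i)), ¬ Ent K S P M i j N := by
  intro G _ _ S P F _ _ _ M i j N h
  obtain ⟨G₀, U, v, e, c⟩ := hch G S P F M i j N h
  rcases hid G _ _ _ _ _ e with ⟨_, _, _, _, _, _, k⟩ | f
  · exact h.not_sp c k
  · exact not_ffour hFF h e c f

end Cfsg.Agent.Omega.IId.M4
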