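import Cfsg.Agent.Omega.HOneEnd.SpIota
import Cfsg.Agent.Omega.HOneEnd.EndIn
import Cfsg.Agent.Omega.HOneEnd.TwoC
import Cfsg.Agent.Omega.All.SpN.Long
import Cfsg.Agent.Omega.IId.M4.Graph

/-!
# WrMain4: the K-facts `SpK` for `G₀ ≅ Sp_2n(q)`, `q` even, `n ≥ 3`

* `spK` : `SpK` over `Hyp0 ι T`;
* `exists_hyp0` : the standard position of `T`, `T ∩ G₀` Sylow in `G₀`;
* `exists_spK` : `SpK` for `φ : G₀ ≃* PSp n F`, `R` a short root group;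
* `spK_of_endIn` : the same over the interface `EndIn`.
-/

set_option autoImplicit false
set_option linter.unusedSectionVars false

namespace Cfsg.Agent.Omega.IId.M4

open Cfsg Cfsg.Agent.ClassicalGeometry.SympBasic Cfsg.Agent.ClassicalGeometry.SympAutSemi
open Cfsg.Agent.OddHalf.SpN Cfsg.Agent.OddHalf.SpN.Out
open Subgroup Cfsg.Agent.ZN
open Cfsg.Agent.Nodes.TypeC Cfsg.Agent.TitsThree Cfsg.Agent.TitsThree.Siegel
open Cfsg.Agent.KFacts.SysSp (eSp)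
open Cfsg.Agent.Omega.All.SpN (Hyp0 C0 D0 QS US UL i0 i1)
open Cfsg.Agent.Omega.HOneEnd.SpIota (iota iota_inj iota_range mem_X12_of_alt alt_sx eSp_eq cv dj_cv)
open Cfsg.Agent.Omega.HOneEnd (EndIn)

variable {n : ℕ} {F : Type*} [Field F] [Finite F] [CharP F 2]

theorem spK {G : Type*} [Group G] [Finite G] {ι : Sy n F →* G} {T : Subgroup G} (H : Hyp0 ι T) (hn : 3 ≤ n) :
    SpK T ι.range ((X12 hn).map ι) ((Y1 hn).map ι) ((C0 hn).map ι) ((D0 hn).map ι) ((QS (i0 hn) (i1 hn)).map ι)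
      ((UL (i0 hn)).map ι) ((US (i0 hn) (i1 hn)).map ι) where
  side_a := H.side hn
  C_Qa := H.C_Q hn
  zU _ hz hc := H.zU hn hz hc
  mix _ hx _ hy hx1 _ := H.mix hn hx hy hx1
  T_C := H.S_D hn
  C_X := by rw [H.D_eq hn]; exact inf_le_right
  Q_max := H.L_max hn
  fld _ ht hc := H.L_fld hn ht hc
  abel := Hyp0.L_abel hn

theorem card_X12 {G : Type*} [Group G] [Finite G] {ι : Sy n F →* G} (hι : Function.Injective ι) (hn : 3 ≤ n) :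
    Nat.card F ≤ Nat.card ↥((X12 hn).map ι) := by
  apply Nat.card_le_card_of_injective (fun t : F => (⟨ι (zz hn t 0), ⟨_, ⟨t, rfl⟩, rfl⟩⟩ : ↥((X12 hn).map ι)))
  intro t t' h
  exact (zz_inj hn (hι (congrArg Subtype.val h))).1

/-- `|U_a| ≤ q³` -/
theorem card_US {G : Type*} [Group G] (ι : Sy n F →* G) (hn : 3 ≤ n) :
    Nat.card ↥((US (i0 hn) (i1 hn)).map ι) ≤ Nat.card F ^ 3 := by
  have h1 : Nat.card (F × F × F) = Nat.card F ^ 3 := by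
    rw [Nat.card_prod, Nat.card_prod]; ring
  have h2 : ∀ a b c : F, sx (i0 hn) (i1 hn) c * Cfsg.Agent.OddHalf.SpN.sy (i0 hn) a *
      Cfsg.Agent.OddHalf.SpN.sy (i1 hn) b ∈ US (i0 hn) (i1 hn) := by
    intro a b c
    refine mul_mem (mul_mem ?_ ?_) ?_
    · exact Cfsg.Agent.Omega.All.SpN.sx_mem_US (Cfsg.Agent.Omega.All.SpN.d01 hn) _
    · exact Cfsg.Agent.Omega.All.SpN.sy_mem_US _
    · exact Cfsg.Agent.Omega.All.SpN.sy_mem_US' _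
  rw [← h1]
  apply Nat.card_le_card_of_surjective (fun x : F × F × F =>
    (⟨ι (sx (i0 hn) (i1 hn) x.2.2 * Cfsg.Agent.OddHalf.SpN.sy (i0 hn) x.1 *
      Cfsg.Agent.OddHalf.SpN.sy (i1 hn) x.2.1), ⟨_, h2 x.1 x.2.1 x.2.2, rfl⟩⟩ : ↥((US (i0 hn) (i1 hn)).map ι)))
  rintro ⟨_, A, hA, rfl⟩
  obtain ⟨a, b, c, rfl⟩ := Cfsg.Agent.Omega.All.SpN.exists_US (Cfsg.Agent.Omega.All.SpN.d01 hn) hA
  exact ⟨(a, b, c), rfl⟩

/-- the standard position of `T` -/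
theorem exists_hyp0 {G : Type*} [Group G] [Finite G] {ι₀ : Sy n F →* G} (hι : Function.Injective ι₀)
    (hcen : ∀ c : G, (∀ A, ι₀ A * c = c * ι₀ A) → c = 1) {T : Subgroup G} (hT : IsPGroup 2 T)
    (hTY : T ≤ normalizer (ι₀.range : Set G))
    (hmax : ∀ P : Subgroup G, P ≤ ι₀.range → IsPGroup 2 P → T ⊓ ι₀.range ≤ P → P ≤ T) :
    ∃ (ι : Sy n F →* G) (y : G), y ∈ normalizer (ι₀.range : Set G) ∧ (∀ A, ι A = y * ι₀ A * y⁻¹) ∧
      ι.range = ι₀.range ∧ Hyp0 ι T := by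
  have : Fact (Nat.Prime 2) := ⟨Nat.prime_two⟩
  have h1 : IsPGroup 2 (((Up n F).map ι₀).subgroupOf ι₀.range) :=
    (isPGroup_Up.map ι₀).comap_of_injective ι₀.range.subtype ι₀.range.subtype_injective
  obtain ⟨P, hP⟩ := h1.exists_le_sylow
  have h2 : IsPGroup 2 (T.subgroupOf ι₀.range) := hT.comap_of_injective _ ι₀.range.subtype_injective
  let Q : Sylow 2 ↥ι₀.range := ⟨T.subgroupOf ι₀.range, h2, fun {K} hK hle => by
    apply le_antisymm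
    · intro k hk
      have h3 := hmax (K.map ι₀.range.subtype) (by rintro _ ⟨x, -, rfl⟩; exact x.2) (hK.map _) (by
        rintro x ⟨hx, hx'⟩
        exact ⟨⟨x, hx'⟩, hle (mem_subgroupOf.2 hx), rfl⟩)
      exact mem_subgroupOf.2 (h3 ⟨k, hk, rfl⟩)
    · exact hle⟩
  obtain ⟨y, hy⟩ := MulAction.exists_smul_eq ↥ι₀.range P Q
  have key : ∀ A ∈ Up n F, (y : G) * ι₀ A * (y : G)⁻¹ ∈ T := by
    intro A hA
    have h2 : (⟨ι₀ A, ⟨A, rfl⟩⟩ : ↥ι₀.range) ∈ (P : Subgroup ↥ι₀.range) := hP ⟨A, hA, rfl⟩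
    have h3 : y * ⟨ι₀ A, ⟨A, rfl⟩⟩ * y⁻¹ ∈ ((y • P : Sylow 2 ↥ι₀.range) : Subgroup ↥ι₀.range) := by
      rw [Sylow.coe_subgroup_smul]
      exact ⟨_, h2, rfl⟩
    rw [hy] at h3
    exact mem_subgroupOf.1 h3
  have hyN : (y : G) ∈ normalizer (ι₀.range : Set G) := le_normalizer y.2
  let ι : Sy n F →* G := (MulAut.conj (y : G)).toMonoidHom.comp ι₀
  have hιe : ∀ A, ι A = (y : G) * ι₀ A * (y : G)⁻¹ := fun A => rfl
  have hr : ι.range = ι₀.range := by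
    ext x
    constructor
    · rintro ⟨A, rfl⟩
      exact (mem_normalizer_iff.1 hyN _).1 ⟨A, rfl⟩
    · intro hx
      obtain ⟨A, hA⟩ := (mem_normalizer_iff''.1 hyN x).1 hx
      exact ⟨A, by rw [hιe, hA]; group⟩
  have hιi : Function.Injective ι := fun A B h => hι (by
    rw [hιe, hιe] at h
    exact mul_left_cancel (mul_right_cancel h))
  refine ⟨ι, y, hyN, hιe, hr, hιi, fun c hc => ?_, hT, by rw [hr]; exact hTY, ?_⟩
  · have h2 : (y : G)⁻¹ * c * y = 1 := by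
      apply hcen
      intro A
      have h3 := hc A
      rw [hιe] at h3
      calc ι₀ A * ((y : G)⁻¹ * c * y) = (y : G)⁻¹ * ((y : G) * ι₀ A * (y : G)⁻¹ * c) * y := by group
        _ = (y : G)⁻¹ * (c * ((y : G) * ι₀ A * (y : G)⁻¹)) * y := by rw [h3]
        _ = _ := by group
    calc c = (y : G) * ((y : G)⁻¹ * c * y) * (y : G)⁻¹ := by group
      _ = 1 := by rw [h2]; group
  · apply le_antisymm
    · rintro _ ⟨hx, ⟨A, rfl⟩⟩
      have h1 : IsPGroup 2 ((T.comap ι : Subgroup (Sy n F))) := hT.comap_of_injective ι hιi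
      exact ⟨A, Up_max h1 (fun B hB => key B hB) hx, rfl⟩
    · rintro _ ⟨A, hA, rfl⟩
      exact ⟨key A hA, ⟨A, rfl⟩⟩

theorem R_eq0 {G : Type*} [Group G] [Finite G] {ι₀ ι : Sy n F →* G} (hι₀ : Function.Injective ι₀) {y : G}
    (hy : y ∈ normalizer (ι₀.range : Set G)) (hιe : ∀ A, ι A = y * ι₀ A * y⁻¹) (hr : ι.range = ι₀.range)
    {S : Subgroup G} (H : Hyp0 ι S) (hn : 3 ≤ n) {R : Subgroup G} {i j : Ix n} (hd : Dj i j)
    (hR : ∀ x, x ∈ R ↔ ∃ t : F, x = ι₀ (sx i j t)) (hSR : S ⊓ ι.range ≤ centralizer (R : Set G)) :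
    R = (X12 hn).map ι := by
  apply Subgroup.eq_of_le_of_card_ge
  · intro x hx
    obtain ⟨t, ht⟩ := (hR x).1 hx
    have hy' : y⁻¹ ∈ normalizer (ι.range : Set G) := by rw [hr]; exact inv_mem hy
    obtain ⟨s, φ, hs, ha⟩ := exists_acts hn H.inj hy'
    obtain ⟨C, hC, hC'⟩ := ha (sx i j t)
    have hx' : x = ι C := by
      rw [← hC, hιe, ht]; group
    have hU : ∀ A, A ∈ Up n F ↔ ι A ∈ S ⊓ ι.range := by
      intro A
      rw [H.U_eq]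
      exact ⟨fun h => ⟨A, h, rfl⟩, fun ⟨A', h, e⟩ => H.inj e ▸ h⟩
    have hCz : C ∈ Zz hn := by
      rw [mem_Zz_iff]
      intro D hD
      apply H.inj
      rw [map_mul, map_mul]
      have h1 := Subgroup.mem_centralizer_iff.1 (hSR ((hU D).1 hD)) x hx
      rw [hx'] at h1
      exact h1.symm
    refine ⟨C, mem_X12_of_alt hn hCz fun v => ?_, hx'.symm⟩
    have h2 : rho n F C v = s (rho n F (sx i j t) (s⁻¹ v)) := by rw [hC']; rfl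
    have h3 : v = s (s⁻¹ v) := (perm_apply_inv_self s v).symm
    rw [h2]
    conv_lhs => rw [h3]
    rw [perm_inv_apply_self, hs.form, alt_sx hd, map_zero]
  · have h1 : Nat.card ↥((X12 hn).map ι) ≤ Nat.card F := by
      apply Nat.card_le_card_of_surjective (fun t : F => (⟨ι (zz hn t 0), ⟨_, ⟨t, rfl⟩, rfl⟩⟩ : ↥((X12 hn).map ι)))
      rintro ⟨_, ⟨_, ⟨t, rfl⟩, rfl⟩⟩
      exact ⟨t, rfl⟩
    refine h1.trans ?_
    apply Nat.card_le_card_of_injective (fun t : F => (⟨ι₀ (sx i j t), (hR _).2 ⟨t, rfl⟩⟩ : R))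
    intro t t' htt
    exact sx_inj hd (hι₀ (congrArg Subtype.val htt))

/-- **From `φ : G₀ ≃* PSp n F` to `SpK`**: `R` a short root group with `R ≤ T ⊓ G₀ ≤ C(R)`, `T ⊓ G₀` a maximal
2-subgroup of `G₀`; `|U_a| ≤ |R|³`. -/
theorem exists_spK' {G : Type*} [Group G] [Finite G] {T G₀ R : Subgroup G} (hT : IsPGroup 2 T) (hn : 3 ≤ n)
    (φ : ↥G₀ ≃* PSp n F) (hTG : T ≤ normalizer (G₀ : Set G)) (hcen : centralizer (G₀ : Set G) = ⊥)
    (hmax : ∀ P : Subgroup G, P ≤ G₀ → IsPGroup 2 P → T ⊓ G₀ ≤ P → P ≤ T) (hRT : R ≤ T ⊓ G₀)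
    (hTR : T ⊓ G₀ ≤ centralizer (R : Set G)) {ρ : Fin n → ℤ} {a b : Fin n × Bool} (hab : a.1 ≠ b.1)
    (e : ee ρ = wt a + wt b) (hR : ∀ x : ↥G₀, (x : G) ∈ R ↔ ∃ t : F, φ x = eSp n F ρ t) :
    ∃ Xb Ca Cb Qa Qb Ua : Subgroup G, SpK T G₀ R Xb Ca Cb Qa Qb Ua ∧ Nat.card Ua ≤ Nat.card R ^ 3 := by
  have hr₀ := iota_range φ
  have hcen' : ∀ c : G, (∀ A, iota φ A * c = c * iota φ A) → c = 1 := by
    intro c hc
    have h1 : c ∈ centralizer (G₀ : Set G) := by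
      rw [Subgroup.mem_centralizer_iff]
      intro g hg
      rw [SetLike.mem_coe, ← hr₀] at hg
      obtain ⟨A, rfl⟩ := hg
      exact hc A
    rwa [hcen, Subgroup.mem_bot] at h1
  obtain ⟨ι, y, hy, hιe, hr, H⟩ := exists_hyp0 (iota_inj φ) hcen' hT (by rw [hr₀]; exact hTG)
    (by rw [hr₀]; exact hmax)
  have hRι : ∀ x, x ∈ R ↔ ∃ t : F, x = iota φ (sx (cv a) (cv b) t) := by
    intro x
    constructor
    · intro hx
      obtain ⟨t, ht⟩ := (hR ⟨x, (hRT hx).2⟩).1 hx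
      refine ⟨t, ?_⟩
      rw [eSp_eq hab e] at ht
      show x = ((φ.symm (Cfsg.Agent.Omega.HOneEnd.SpIota.toP n F _) : ↥G₀) : G)
      rw [← ht, MulEquiv.symm_apply_apply]
    · rintro ⟨t, rfl⟩
      exact (hR (φ.symm (Cfsg.Agent.Omega.HOneEnd.SpIota.toP n F _))).2
        ⟨t, by rw [MulEquiv.apply_symm_apply, eSp_eq hab e]⟩
  have hrG : ι.range = G₀ := hr.trans hr₀
  have hReq : R = (X12 hn).map ι := R_eq0 (iota_inj φ) hy hιe hr H hn (dj_cv hab) hRι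
    (by rw [hrG]; exact hTR)
  have hD := spK H hn
  rw [hrG, ← hReq] at hD
  refine ⟨_, _, _, _, _, _, hD, (card_US ι hn).trans (Nat.pow_le_pow_left ?_ 3)⟩
  rw [hReq]
  exact card_X12 H.inj hn

theorem exists_spK {G : Type*} [Group G] [Finite G] {T G₀ R : Subgroup G} (hT : IsPGroup 2 T) (hn : 3 ≤ n)
    (φ : ↥G₀ ≃* PSp n F) (hTG : T ≤ normalizer (G₀ : Set G)) (hcen : centralizer (G₀ : Set G) = ⊥)
    (hmax : ∀ P : Subgroup G, P ≤ G₀ → IsPGroup 2 P → T ⊓ G₀ ≤ P → P ≤ T) (hRT : R ≤ T ⊓ G₀)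
    (hTR : T ⊓ G₀ ≤ centralizer (R : Set G)) {ρ : Fin n → ℤ} {a b : Fin n × Bool} (hab : a.1 ≠ b.1)
    (e : ee ρ = wt a + wt b) (hR : ∀ x : ↥G₀, (x : G) ∈ R ↔ ∃ t : F, φ x = eSp n F ρ t) :
    ∃ Xb Ca Cb Qa Qb Ua : Subgroup G, SpK T G₀ R Xb Ca Cb Qa Qb Ua := by
  obtain ⟨Xb, Ca, Cb, Qa, Qb, Ua, h, -⟩ := exists_spK' hT hn φ hTG hcen hmax hRT hTR hab e hR
  exact ⟨Xb, Ca, Cb, Qa, Qb, Ua, h⟩

/-- the same over `EndIn` -/
theorem spK_of_endIn' {G : Type*} [Group G] [Finite G] {T G₀ U R : Subgroup G} {v : G} (h : EndIn T G₀ U R v)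
    (hn : 3 ≤ n) (φ : ↥G₀ ≃* PSp n F) {ρ : Fin n → ℤ} {a b : Fin n × Bool} (hab : a.1 ≠ b.1)
    (e : ee ρ = wt a + wt b) (hR : ∀ x : ↥G₀, (x : G) ∈ R ↔ ∃ t : F, φ x = eSp n F ρ t) :
    ∃ Xb Ca Cb Qa Qb Ua : Subgroup G, SpK T G₀ R Xb Ca Cb Qa Qb Ua ∧ Nat.card Ua ≤ Nat.card R ^ 3 := by
  have hUT : U ≤ T := by rw [← h.S_inf]; exact inf_le_left
  refine exists_spK' h.S_two hn φ h.S_G₀ h.cent (fun P hP hP2 hle => ?_) (by rw [h.S_inf]; exact h.R_U)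
    (by rw [h.S_inf]; exact h.U_R) hab e hR
  rw [h.S_inf] at hle
  have h1 : U.relIndex P ∣ U.relIndex G₀ := by
    have := Subgroup.relIndex_mul_relIndex U P G₀ hle hP
    exact ⟨_, this.symm⟩
  have h2 : Odd (U.relIndex P) := Odd.of_dvd_nat h.odd h1
  have : Fact (Nat.Prime 2) := ⟨Nat.prime_two⟩
  have h3 : U.relIndex P = 1 := by
    obtain ⟨k, hk⟩ := hP2.index (U.subgroupOf P)
    have h4 : U.relIndex P = 2 ^ k := hk
    rw [h4] at h2 ⊢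
    rcases k with _ | k
    · rfl
    · exfalso
      rw [pow_succ] at h2
      exact (Nat.not_even_iff_odd.2 h2) (even_iff_two_dvd.2 ⟨2 ^ k, by ring⟩)
  exact (Subgroup.relIndex_eq_one.1 h3).trans hUT

theorem spK_of_endIn {G : Type*} [Group G] [Finite G] {T G₀ U R : Subgroup G} {v : G} (h : EndIn T G₀ U R v)
    (hn : 3 ≤ n) (φ : ↥G₀ ≃* PSp n F) {ρ : Fin n → ℤ} {a b : Fin n × Bool} (hab : a.1 ≠ b.1)
    (e : ee ρ = wt a + wt b) (hR : ∀ x : ↥G₀, (x : G) ∈ R ↔ ∃ t : F, φ x = eSp n F ρ t) :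
    ∃ Xb Ca Cb Qa Qb Ua : Subgroup G, SpK T G₀ R Xb Ca Cb Qa Qb Ua := by
  obtain ⟨Xb, Ca, Cb, Qa, Qb, Ua, h1, -⟩ := spK_of_endIn' h hn φ hab e hR
  exact ⟨Xb, Ca, Cb, Qa, Qb, Ua, h1⟩

/-- the same with the literal output of THEOREM ID -/
theorem spK_of_id' {W : Type*} [Group W] [Finite W] (cs : CoxeterSystem (CoxeterMatrix.B n) W) {G : Type*} [Group G]
    [Finite G] {T G₀ U R : Subgroup G} {v : G} (h : EndIn T G₀ U R v) (hn : 3 ≤ n) (φ : ↥G₀ ≃* PSp n F)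
    (hR : (R.subgroupOf G₀).map φ.toMonoidHom =
      Cfsg.Agent.Nodes.WittModel.X (KInstSp.model n F) (Cfsg.Agent.Omega.HOneEnd.TwoInst.rhoC hn)) :
    ∃ Xb Ca Cb Qa Qb Ua : Subgroup G, SpK T G₀ R Xb Ca Cb Qa Qb Ua ∧ Nat.card Ua ≤ Nat.card R ^ 3 := by
  have : Fact (Nat.Prime 2) := ⟨Nat.prime_two⟩
  have hr := (Cfsg.Agent.Omega.HOneEnd.TwoInst.two_C (cs := cs) hn).rρ.1
  refine spK_of_endIn' h hn φ (ρ := Cfsg.Agent.Omega.HOneEnd.TwoInst.rhoC hn) (a := (⟨0, by omega⟩, true))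
    (b := (⟨1, by omega⟩, true)) (by simp) ?_ fun x => ?_
  · unfold Cfsg.Agent.Omega.HOneEnd.TwoInst.rhoC
    rw [Cfsg.Agent.Nodes.KindBC.ee_rt]
  · have h1 : (x : G) ∈ R ↔ φ x ∈ (R.subgroupOf G₀).map φ.toMonoidHom := by
      constructor
      · exact fun hx => ⟨x, mem_subgroupOf.2 hx, rfl⟩
      · rintro ⟨y, hy, e⟩
        have : y = x := φ.injective e
        rw [← this]
        exact mem_subgroupOf.1 hy
    rw [h1, hR, (Cfsg.Agent.KFacts.SysSp.sys_PSp n F cs).mem_X _ hr]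
    exact ⟨fun ⟨t, e⟩ => ⟨t, e.symm⟩, fun ⟨t, e⟩ => ⟨t, e.symm⟩⟩

theorem spK_of_id {W : Type*} [Group W] [Finite W] (cs : CoxeterSystem (CoxeterMatrix.B n) W) {G : Type*} [Group G]
    [Finite G] {T G₀ U R : Subgroup G} {v : G} (h : EndIn T G₀ U R v) (hn : 3 ≤ n) (φ : ↥G₀ ≃* PSp n F)
    (hR : (R.subgroupOf G₀).map φ.toMonoidHom =
      Cfsg.Agent.Nodes.WittModel.X (KInstSp.model n F) (Cfsg.Agent.Omega.HOneEnd.TwoInst.rhoC hn)) :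
    ∃ Xb Ca Cb Qa Qb Ua : Subgroup G, SpK T G₀ R Xb Ca Cb Qa Qb Ua := by
  obtain ⟨Xb, Ca, Cb, Qa, Qb, Ua, h1, -⟩ := spK_of_id' cs h hn φ hR
  exact ⟨Xb, Ca, Cb, Qa, Qb, Ua, h1⟩

end Cfsg.Agent.Omega.IId.M4
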