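import Cfsg.Agent.Omega.HOneEnd.ThmId
import Cfsg.Agent.Omega.HOneEnd.FFourFK
import Cfsg.Agent.Omega.HOneEnd.FFourGEmb
import Cfsg.Agent.Omega.IId.M4.SpKof
import Cfsg.Agent.Omega.IId.M4.Main

/-!
# WrMain4: THEOREM ID in the form of `Main.lean`

`idM4 : IdM4`.
-/

set_option autoImplicit false

namespace Cfsg.Agent.Omega.IId.M4

open Subgroup Cfsg
open Cfsg.Agent.Omega.HOneEnd (EndIn)
open Cfsg.Agent.Omega.HOneEnd.ThmId (thm_id)

universe u

/-- a 2-group containing `T` meets `G₀` in `U` -/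
theorem inf_eq_of_endIn {G : Type*} [Group G] {T G₀ U R : Subgroup G} {v : G} (h : EndIn T G₀ U R v)
    {S : Subgroup G} (hS : IsPGroup 2 S) (hTS : T ≤ S) : S ⊓ G₀ = U := by
  have : Fact (Nat.Prime 2) := ⟨Nat.prime_two⟩
  have hUT : U ≤ T := by rw [← h.S_inf]; exact inf_le_left
  have hUG : U ≤ G₀ := by rw [← h.S_inf]; exact inf_le_right
  have hle : U ≤ S ⊓ G₀ := le_inf (hUT.trans hTS) hUG
  refine le_antisymm ?_ hle
  have h1 : U.relIndex (S ⊓ G₀) ∣ U.relIndex G₀ :=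
    ⟨_, (Subgroup.relIndex_mul_relIndex U (S ⊓ G₀) G₀ hle inf_le_right).symm⟩
  have h2 : Odd (U.relIndex (S ⊓ G₀)) := Odd.of_dvd_nat h.odd h1
  have h5 : IsPGroup 2 ↥(S ⊓ G₀) := hS.to_le inf_le_left
  by_cases hi : U.relIndex (S ⊓ G₀) = 0
  · rw [hi] at h2
    exact absurd h2 (by decide)
  have h3 : U.relIndex (S ⊓ G₀) = 1 := by
    have : (U.subgroupOf (S ⊓ G₀)).FiniteIndex := ⟨hi⟩
    obtain ⟨k, hk⟩ := h5.index (U.subgroupOf (S ⊓ G₀))
    have h4 : U.relIndex (S ⊓ G₀) = 2 ^ k := hk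
    rw [h4] at h2 ⊢
    rcases k with _ | k
    · rfl
    · exfalso
      rw [pow_succ] at h2
      exact (Nat.not_even_iff_odd.2 h2) (even_iff_two_dvd.2 ⟨2 ^ k, by ring⟩)
  exact Subgroup.relIndex_eq_one.1 h3

/-- **THEOREM ID in the form of `WrMain4`.** -/
theorem idM4 : IdM4.{u} := by
  intro G _ _ T G₀ U R v h
  have hR : R ≤ G₀ := h.R_U.trans (by rw [← h.S_inf]; exact inf_le_right)
  rcases thm_id h with ⟨F, i1, i2, i3, n, hn, φ, -, e2⟩ | ⟨K, i1, i2, i3, φ, e1, s, hs, e2⟩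
  · left
    have hW : Finite (CoxeterMatrix.B n).Group := Cfsg.Agent.Nodes.TypeC.finite_W (CoxeterMatrix.B n).toCoxeterSystem
    exact spK_of_id (CoxeterMatrix.B n).toCoxeterSystem h hn φ e2
  · right
    refine ⟨?_, fun S hS hTS hSG hsyl hsw => ?_⟩
    · exact Cfsg.Agent.Omega.HOneEnd.FFour.fk_of φ h.S_two h.S_G₀ h.S_R hR h.cent (by rw [h.S_inf]; exact e1) hs e2
    · refine Cfsg.Agent.Omega.HOneEnd.FFour.ffourG_of φ hS hSG hR h.cent ?_ hs e2 h.N_R hsyl hsw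
      rw [inf_eq_of_endIn h hS hTS]
      exact e1

end Cfsg.Agent.Omega.IId.M4
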