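import Cfsg.Agent.Omega.IId.M4.SideA

/-!
# WrMain4, section 6: `s` normalises `G₀`

`D : Side T Y C_a X_a Q_a U_a`, `C_a ≤ N_G(Q_a)`, `N : SylN S T X_a`, `s ∈ N_G(T)`, `1 ≠ r ∈ X_a`.  The other root group
`X_b` with `C_b ≤ C_G(X_b)`, `Q_b = O₂(C_b)`.

* `mem_other` : `r₂ ∈ X_b` for `r₂ ∈ Z(T ∩ G₀)` outside `X_a` with `C_{G₀}(r₂) ≰ N_G(X_a)`;
* `swap_le` : `r^s ∈ X_b` implies `Q_a^s ≤ Q_b`; `swap_false` : `Q_b` is not abelian (`Sp_{2n}(q)` dies);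
* `swap_eq`, `swap_X` : if the `b`-side is a `Side` too: `Q_a^s = Q_b`, `X_a^s = X_b`;
* `swap_mem` : `s ∈ N_G(G₀)`.

* `swap_X'`, `swap_Q'`, `swap_U`, `swap_U'`, `swap_C`, `swap_C'` : `s` swaps `X_a`, `X_b`; `Q_a`, `Q_b`; `U_a`, `U_b`; `C_a`, `C_b`.
-/

set_option autoImplicit false

namespace Cfsg.Agent.Omega.IId.M4

open Subgroup Cfsg Cfsg.Agent.ZN Cfsg.Agent.Omega.MinPar Cfsg.Agent.Omega.Frame
open Cfsg.Agent.ZN.ChoiceBase (cj mem_cj card_cj cj_mono cj_le_iff cj_normalizer cj_cj_inv cj_inv_cj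
  cj_eq_of_mem_normalizer mem_normalizer_iff_cj)
open Cfsg.Agent.Omega.All Cfsg.Agent.Omega.All.HOne
open Cfsg.Agent.MinSimple.VModule (le_o2 mem_zc zc_le zc_comm o2_le o2_isPGroup le_normalizer_o2)
open Cfsg.Agent.MinSimple.Basic (char2_centralizer)

universe u

variable {G : Type u} [Group G]

/-- **(1)** `r₂ ∈ X_b`. -/
theorem mem_other {G₀ U Xa Xb : Subgroup G}
    (hz : ∀ z ∈ U, U ≤ centralizer ({z} : Set G) → ∃ x ∈ Xa, ∃ y ∈ Xb, z = x * y)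
    (hmix : ∀ x ∈ Xa, ∀ y ∈ Xb, x ≠ 1 → y ≠ 1 → G₀ ⊓ centralizer ({x * y} : Set G) ≤ normalizer (Xa : Set G))
    {r₂ : G} (hU : r₂ ∈ U) (hcU : U ≤ centralizer ({r₂} : Set G)) (hn : r₂ ∉ Xa)
    (hc : ¬ G₀ ⊓ centralizer ({r₂} : Set G) ≤ normalizer (Xa : Set G)) : r₂ ∈ Xb := by
  obtain ⟨x, hx, y, hy, rfl⟩ := hz r₂ hU hcU
  by_cases hy1 : y = 1
  · exact absurd (by rw [hy1, mul_one]; exact hx) hn
  by_cases hx1 : x = 1
  · rw [hx1, one_mul]; exact hy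
  exact absurd (hmix x hx y hy hx1 hy1) hc

section swap

variable [Finite G] {S : Sylow 2 G} {T Y Ca Xa Qa Ua : Subgroup G} (N : SylN (S : Subgroup G) T Xa)
  (D : Side T Y Ca Xa Qa Ua) (hCQ : Ca ≤ normalizer (Qa : Set G)) (hG : IsCharacteristicTwoType G)
  {s r : G} (hs : s ∈ normalizer (T : Set G)) (hr : r ∈ Xa) (hr1 : r ≠ 1) {Cb Xb Qb : Subgroup G}
  (hrb : s * r * s⁻¹ ∈ Xb) (hCX : Cb ≤ centralizer (Xb : Set G))

omit [Finite G] in
include hrb hCX in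
theorem conj_mem_cen {c : G} (hc : c ∈ Cb) : s⁻¹ * c * s ∈ centralizer ({r} : Set G) := by
  have h1 := mem_centralizer_iff.1 (hCX hc) _ hrb
  rw [mem_centralizer_singleton_iff]
  calc s⁻¹ * c * s * r = s⁻¹ * (c * (s * r * s⁻¹)) * s := by group
    _ = r * (s⁻¹ * c * s) := by rw [← h1]; group

include N D hCQ hG hr hr1 hrb hCX in
/-- `C_b` normalises `Q_a^s` -/
theorem swap_norm : Cb ≤ normalizer ((cj s Qa : Subgroup G) : Set G) := by
  refine le_normalizer_of fun c hc x hx => ?_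
  rw [mem_cj] at hx ⊢
  have h1 := N.cen_le D hCQ hG hr hr1 (conj_mem_cen hrb hCX hc)
  have h2 := conj_mem_of_normalizer h1 hx
  have e : s⁻¹ * c * s * (s⁻¹ * x * s) * (s⁻¹ * c * s)⁻¹ = s⁻¹ * (c * x * c⁻¹) * s := by group
  rwa [e] at h2

include N D hCQ hG hs hr hr1 hrb hCX in
/-- **(2)** `Q_a^s ≤ Q_b` -/
theorem swap_le (hTC : T ≤ normalizer (Cb : Set G))
    (hmax : ∀ K : Subgroup G, IsPGroup 2 K → K ≤ Cb → Cb ≤ normalizer (K : Set G) → K ≤ Qb)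
    (hfld : ∀ t ∈ T, (∀ c ∈ Cb, t * c * t⁻¹ * c⁻¹ ∈ Qb) → t ∈ Qb) : cj s Qa ≤ Qb := by
  refine le_of_fld N.isPGroup hTC hmax hfld ?_ (swap_norm N D hCQ hG hr hr1 hrb hCX)
  have h1 := cj_mono s D.Q_S
  rwa [cj_eq_of_mem_normalizer hs] at h1

omit [Finite G] in
include D in
theorem cj_X (s : G) : cj s Xa = ⁅cj s Qa, cj s Qa⁆ := by
  show Subgroup.map _ Xa = ⁅Subgroup.map _ Qa, Subgroup.map _ Qa⁆
  rw [← D.comm, map_commutator]

include N D hCQ hG hs hr hr1 hrb hCX in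
/-- `Q_b` is not abelian: the end for `Sp_{2n}(q)`. -/
theorem swap_false (hTC : T ≤ normalizer (Cb : Set G))
    (hmax : ∀ K : Subgroup G, IsPGroup 2 K → K ≤ Cb → Cb ≤ normalizer (K : Set G) → K ≤ Qb)
    (hfld : ∀ t ∈ T, (∀ c ∈ Cb, t * c * t⁻¹ * c⁻¹ ∈ Qb) → t ∈ Qb)
    (hab : Qb ≤ centralizer (Qb : Set G)) : False := by
  have h1 := swap_le N D hCQ hG hs hr hr1 hrb hCX hTC hmax hfld
  have h2 : cj s Xa = ⊥ := by
    rw [cj_X D s, commutator_eq_bot_iff_le_centralizer]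
    exact h1.trans (hab.trans (centralizer_le h1))
  apply D.X_ne
  rw [← cj_inv_cj s Xa, h2]
  exact Subgroup.map_bot _

variable {Ub : Subgroup G} (Db : Side T Y Cb Xb Qb Ub)

include N D hCQ hG hs hr hr1 hrb Db in
/-- **(3)** `Q_a^s = Q_b` -/
theorem swap_eq : cj s Qa = Qb := by
  have h1 := swap_le N D hCQ hG hs hr hr1 hrb Db.C_X Db.S_C Db.Q_max Db.fld
  refine Db.irr _ h1 (swap_norm N D hCQ hG hr hr1 hrb Db.C_X) ?_
  rintro x ⟨hx, hx1⟩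
  rw [mem_cj]
  have h2 := conj_mem_cen hrb Db.C_X (Db.Q_C hx)
  have h3 := char2_centralizer hG (by
    have := D.X_el.2 r hr
    rwa [pow_two] at this ⊢) hr1
  rw [N.o2_eq D hCQ hG hr hr1] at h3
  refine h3 ⟨h2, mem_centralizer_iff.2 fun y hy => ?_⟩
  have h4 := mem_centralizer_iff.1 hx1 (s * y * s⁻¹) (by
    rw [SetLike.mem_coe, mem_cj]
    have e : s⁻¹ * (s * y * s⁻¹) * s = y := by group
    rw [e]; exact hy)
  calc y * (s⁻¹ * x * s) = s⁻¹ * (s * y * s⁻¹ * x) * s := by group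
    _ = s⁻¹ * x * s * y := by rw [h4]; group

include N D hCQ hG hs hr hr1 hrb Db in
/-- **(3)** `X_a^s = X_b` -/
theorem swap_X : cj s Xa = Xb := by
  rw [cj_X D s, swap_eq N D hCQ hG hs hr hr1 hrb Db, Db.comm]

include N D hCQ hG hs hr hr1 hrb Db in
/-- **(4)** `s ∈ N_G(G₀)` -/
theorem swap_mem {G₀ W X₁ L₁ : Subgroup G} (hsimple : IsSimpleGroup ↥G₀)
    (hN : normalizer (Xa : Set G) ≤ normalizer (G₀ : Set G))
    (hmax : ∀ M ≤ G₀, G₀ ⊓ normalizer (Xb : Set G) < M → M = G₀) (hCa : Ca ≤ G₀) (hCb : Cb ≤ G₀)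
    (hX₁ : X₁ ≤ G₀) (hX₁n : ¬ X₁ ≤ normalizer (Xa : Set G))
    (hgen : ∀ K : Subgroup G, W ≤ K → L₁ ≤ normalizer (K : Set G) → X₁ ≤ K) (hW : W ≤ Qa)
    (hL : cj s L₁ ≤ normalizer (G₀ : Set G)) : s ∈ normalizer (G₀ : Set G) := by
  have hQ := swap_eq N D hCQ hG hs hr hr1 hrb Db
  have hX := swap_X N D hCQ hG hs hr hr1 hrb Db
  -- `X₁^s ≤ G₀`
  have h1 : cj s X₁ ≤ G₀ := by
    rw [cj_le_iff]
    refine hgen _ ?_ ?_
    · rw [← cj_le_iff]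
      refine (cj_mono s hW).trans ?_
      rw [hQ]
      exact Db.Q_C.trans hCb
    · rw [← cj_normalizer, ← cj_le_iff]
      exact hL
  -- `G₀ ≤ N_G(G₀^s)`
  have h2 : G₀ ⊓ normalizer ((cj s G₀ : Subgroup G) : Set G) = G₀ := by
    refine hmax _ inf_le_left (lt_of_le_of_ne ?_ ?_)
    · refine le_inf inf_le_left (inf_le_right.trans ?_)
      rw [← hX, ← cj_normalizer, ← cj_normalizer]
      exact cj_mono s hN
    · intro h3
      apply hX₁n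
      have h4 : cj s X₁ ≤ normalizer (Xb : Set G) := by
        have h5 : cj s X₁ ≤ G₀ ⊓ normalizer ((cj s G₀ : Subgroup G) : Set G) :=
          le_inf h1 ((cj_mono s hX₁).trans le_normalizer)
        rw [← h3] at h5
        exact h5.trans inf_le_right
      rw [← hX, ← cj_normalizer] at h4
      have h5 := cj_mono s⁻¹ h4
      rwa [cj_inv_cj, cj_inv_cj] at h5
  have h3 : G₀ ≤ normalizer ((cj s G₀ : Subgroup G) : Set G) := by
    conv_lhs => rw [← h2]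
    exact inf_le_right
  -- `G₀ ∩ G₀^s` is normal in `G₀`
  have h4 : ((cj s G₀).subgroupOf G₀).Normal := by
    constructor
    intro x hx g
    rw [mem_subgroupOf] at hx ⊢
    exact conj_mem_of_normalizer (h3 g.2) hx
  have h5 : G₀ ≤ cj s G₀ := by
    rcases hsimple.eq_bot_or_eq_top_of_normal _ h4 with h6 | h6
    · exfalso
      obtain ⟨z, -, hzX, hz1⟩ := N.exists_z D
      apply hz1
      have hzQ : s * z * s⁻¹ ∈ cj s Qa := by
        rw [mem_cj]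
        have e : s⁻¹ * (s * z * s⁻¹) * s = z := by group
        rw [e]
        exact D.X_Q hzX
      have hz2 : s * z * s⁻¹ ∈ G₀ := by
        rw [hQ] at hzQ
        exact hCb (Db.Q_C hzQ)
      have hz3 : s * z * s⁻¹ ∈ cj s G₀ := cj_mono s (D.Q_C.trans hCa) hzQ
      have h7 : (⟨s * z * s⁻¹, hz2⟩ : G₀) ∈ (cj s G₀).subgroupOf G₀ := mem_subgroupOf.2 hz3
      rw [h6, mem_bot] at h7
      have h8 : s * z * s⁻¹ = 1 := congrArg Subtype.val h7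
      have h9 : z = s⁻¹ * (s * z * s⁻¹) * s := by group
      rw [h9, h8]; group
    · exact subgroupOf_eq_top.1 h6
  rw [mem_normalizer_iff_cj]
  exact (eq_of_le_of_card_ge h5 (card_cj s G₀).le).symm

include N D hCQ hG hs hr hr1 hrb Db in
theorem swap_U : cj s Ua = Ub := by
  rw [D.U_eq, Db.U_eq, ChoiceBase.cj_inf, ChoiceBase.cj_centralizer, swap_eq N D hCQ hG hs hr hr1 hrb Db]

include N D hCQ hG hs hr hr1 hrb Db in
/-- `X_b^s = X_a` -/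
theorem swap_X' (hs2 : s * s ∈ T) : cj s Xb = Xa := by
  rw [← swap_X N D hCQ hG hs hr hr1 hrb Db, ChoiceBase.cj_cj]
  exact cj_eq_of_mem_normalizer (D.S_X hs2)

include N D hCQ hG in
/-- `T ≤ N_G(Q_a)` -/
theorem T_Q : T ≤ normalizer (Qa : Set G) := by
  obtain ⟨z, hz, hX, h1⟩ := N.exists_z D
  refine le_trans (fun t ht => ?_) (N.cen_le D hCQ hG hX h1)
  exact mem_centralizer_singleton_iff.2 ((mem_zc.1 hz).2.1 t ht)

include N D hCQ hG hs hr hr1 hrb Db in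
/-- `Q_b^s = Q_a` -/
theorem swap_Q' (hs2 : s * s ∈ T) : cj s Qb = Qa := by
  rw [← swap_eq N D hCQ hG hs hr hr1 hrb Db, ChoiceBase.cj_cj]
  exact cj_eq_of_mem_normalizer (T_Q N D hCQ hG hs2)

include N D hCQ hG hs hr hr1 hrb Db in
theorem swap_U' (hs2 : s * s ∈ T) : cj s Ub = Ua := by
  rw [D.U_eq, Db.U_eq, ChoiceBase.cj_inf, ChoiceBase.cj_centralizer, swap_Q' N D hCQ hG hs hr hr1 hrb Db hs2]

include N D hCQ hG hs hr hr1 hrb Db in
/-- `C_a^s = C_b` -/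
theorem swap_C {G₀ : Subgroup G} (hCa : Ca = G₀ ⊓ centralizer (Xa : Set G))
    (hCb : Cb = G₀ ⊓ centralizer (Xb : Set G)) (hsG : s ∈ normalizer (G₀ : Set G)) : cj s Ca = Cb := by
  rw [hCa, hCb, ChoiceBase.cj_inf, ChoiceBase.cj_centralizer, swap_X N D hCQ hG hs hr hr1 hrb Db,
    cj_eq_of_mem_normalizer hsG]

include N D hCQ hG hs hr hr1 hrb Db in
/-- `C_b^s = C_a` -/
theorem swap_C' (hs2 : s * s ∈ T) {G₀ : Subgroup G} (hCa : Ca = G₀ ⊓ centralizer (Xa : Set G))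
    (hCb : Cb = G₀ ⊓ centralizer (Xb : Set G)) (hsG : s ∈ normalizer (G₀ : Set G)) : cj s Cb = Ca := by
  rw [hCa, hCb, ChoiceBase.cj_inf, ChoiceBase.cj_centralizer, swap_X' N D hCQ hG hs hr hr1 hrb Db hs2,
    cj_eq_of_mem_normalizer hsG]

end swap

end Cfsg.Agent.Omega.IId.M4
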