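import Cfsg.Agent.Omega.All.HOneDat

/-!
# `F₄(q)`, `q ≥ 4` even: the list of facts for `WrMain4` (blueprints/OMEGA-WrMain4-helper441.md, sections 6, 7)

`Y = N_G(G₀)`, `G₀ = F₄(q)`, `C_G(G₀) = 1`; `S₁ ≤ Y` a 2-group which contains a Sylow 2-subgroup `S₀` of `G₀` and
normalises the two root groups of `Z(S₀)` (no graph automorphisms), `{a, b} = {short, long}`:

* `X_c` the root group of the highest root of type `c` (`1232`, `2342`), `C_c = C_{G₀}(X_c)`, `Q_c = O₂(C_c)`,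
  `U_c = Z(Q_c)` (`c = a, b`);
* `XX = X_a X_b`, `QQ = Q_a Q_b = O₂(E)`, `E = C_a ∩ C_b` (`E/QQ = Sp₄(q)`), `J = Q_a ∩ Q_b = [QQ, QQ]`,
  `J_a = Q_a ∩ U_b`, `J_b = U_a ∩ Q_b` (`J = J_a J_b`, `J_a ∩ J_b = XX`), `B = C_{QQ}(J) = U_a U_b`;
* `A` a complement to `C_{Q_a}(J)` in `Q_a` (type `a = s`: roots `0001, 0011, 0111, 0121`; type `l`:
  `1000, 1100, 1120, 1220`);
* orders: `|X_c| = q`, `|XX| = q²`, `|J_c| = q⁶`, `|J| = q¹⁰`, `|U_c| = q⁷`, `|B| = q¹²`, `|Q_c| = q¹⁵`, `|QQ| = q²⁰`,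
  `|S₀| = q²⁴`, `|A| = q⁴`.
-/

set_option autoImplicit false

namespace Cfsg.Agent.Omega.IId.M4.FDat

open Subgroup Cfsg Cfsg.Agent.Omega.All.HOne

universe u

variable {G : Type u} [Group G]

/-- The facts about `F₄(q)`. -/
structure FDat (S₁ Y G₀ Ca Xa Qa Ua Cb Xb Qb Ub A : Subgroup G) : Prop where
  side_a : Side S₁ Y Ca Xa Qa Ua
  side_b : Side S₁ Y Cb Xb Qb Ub
  C_Qa : Ca ≤ normalizer (Qa : Set G)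
  C_Qb : Cb ≤ normalizer (Qb : Set G)
  -- the two sides
  gen : Ca ⊔ Cb = G₀
  card_C : Nat.card Ca = Nat.card Cb
  card_Q : Nat.card Qa = Nat.card Qb
  perf : ⁅Cb, Cb⁆ = Cb
  /-- `Y/G₀` is soluble, `N_{G₀}(X_a)/C_a` is abelian -/
  sol : ∀ K : Subgroup G, K ≤ Y → K ≤ normalizer (Xa : Set G) → ⁅K, K⁆ = K → K ≤ Ca
  norm_C : ∀ y ∈ Y, y ∈ normalizer (Xa : Set G) → y ∈ normalizer (Ca : Set G)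
  cen_b : ∀ x ∈ Xb, x ≠ 1 → Ca ⊓ centralizer ({x} : Set G) ≤ Cb
  X_inf : Xa ⊓ Xb = ⊥
  Xa_Ub : Xa ≤ Ub
  Xb_Ua : Xb ≤ Ua
  Qa_Cb : Qa ≤ Cb
  Qb_Ca : Qb ≤ Ca
  /-- `Z(QQ) = XX` -/
  Z_QQ : (Qa ⊔ Qb) ⊓ centralizer ((Qa ⊔ Qb : Subgroup G) : Set G) ≤ Xa ⊔ Xb
  /-- the torus is transitive on `X_a# × X_b#` -/
  tor : ∀ x ∈ Xa, ∀ y ∈ Xb, x ≠ 1 → y ≠ 1 → ∀ x' ∈ Xa, ∀ y' ∈ Xb, x' ≠ 1 → y' ≠ 1 →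
    ∃ t ∈ Y, t * x * t⁻¹ = x' ∧ t * y * t⁻¹ = y'
  -- `E` and `QQ`
  /-- `QQ = O₂(E)` -/
  E_max : ∀ T : Subgroup G, IsPGroup 2 T → T ≤ Ca ⊓ Cb → Ca ⊓ Cb ≤ normalizer (T : Set G) → T ≤ Qa ⊔ Qb
  /-- `C_{S₁}(E/QQ) ≤ QQ` (no field automorphisms) -/
  E_fld : ∀ t ∈ S₁, (∀ c ∈ Ca ⊓ Cb, t * c * t⁻¹ * c⁻¹ ∈ Qa ⊔ Qb) → t ∈ Qa ⊔ Qb
  J_el : IsElementaryAbelian 2 (Qa ⊓ Qb : Subgroup G)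
  J_comm : Qa ⊓ Qb ≤ ⁅Qa ⊔ Qb, Qa ⊔ Qb⁆
  J_eq : Qa ⊓ Qb ≤ (Qa ⊓ Ub) ⊔ (Ua ⊓ Qb)
  UU : Ua ⊓ Ub ≤ Xa ⊔ Xb
  /-- the `E`-submodules of `J/XX` (two non-isomorphic irreducible modules of order `q⁴`) -/
  J_sub : ∀ T : Subgroup G, T ≤ Qa ⊓ Qb → Xa ⊔ Xb ≤ T → Ca ⊓ Cb ≤ normalizer (T : Set G) →
    T = Xa ⊔ Xb ∨ T = Qa ⊓ Ub ∨ T = Ua ⊓ Qb ∨ T = Qa ⊓ Qb
  /-- the `E`-submodules of `QQ/B` (two non-isomorphic irreducible modules of order `q⁴`) -/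
  QQ_sub : ∀ T : Subgroup G, T ≤ Qa ⊔ Qb →
    (Qa ⊔ Qb) ⊓ centralizer ((Qa ⊓ Qb : Subgroup G) : Set G) ≤ T → Ca ⊓ Cb ≤ normalizer (T : Set G) →
    T ≤ centralizer ((Qa ⊓ Qb : Subgroup G) : Set G) ∨
      T = Qa ⊔ ((Qa ⊔ Qb) ⊓ centralizer ((Qa ⊓ Qb : Subgroup G) : Set G)) ∨
      T = Qb ⊔ ((Qa ⊔ Qb) ⊓ centralizer ((Qa ⊓ Qb : Subgroup G) : Set G)) ∨ T = Qa ⊔ Qb
  -- `B = C_{QQ}(J)`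
  /-- `[B, B] ≤ XX` -/
  B_comm : ∀ b ∈ (Qa ⊔ Qb) ⊓ centralizer ((Qa ⊓ Qb : Subgroup G) : Set G),
    ∀ c ∈ (Qa ⊔ Qb) ⊓ centralizer ((Qa ⊓ Qb : Subgroup G) : Set G), b * c * b⁻¹ * c⁻¹ ∈ Xa ⊔ Xb
  /-- the involutions of `B` -/
  B_inv : ∀ b ∈ (Qa ⊔ Qb) ⊓ centralizer ((Qa ⊓ Qb : Subgroup G) : Set G), b * b = 1 →
    b ∈ Ua ⊔ (Qa ⊓ Qb) ∨ b ∈ Ub ⊔ (Qa ⊓ Qb)
  B_inf : (Ua ⊔ (Qa ⊓ Qb)) ⊓ (Ub ⊔ (Qa ⊓ Qb)) ≤ Qa ⊓ Qb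
  /-- `q² · q²⁴ f · q¹² < q⁴⁰`, `f = |S₁ : S₀| ≤ log₂ q` -/
  card : Nat.card ↥(Xa ⊔ Xb) * Nat.card S₁ *
    Nat.card ↥((Qa ⊔ Qb) ⊓ centralizer ((Qa ⊓ Qb : Subgroup G) : Set G)) <
      Nat.card ↥(Qa ⊔ Qb) * Nat.card ↥(Qa ⊔ Qb)
  -- the pairing `J_a/XX × QQ/C(J_a) → X_a` (4-dimensional over `F_q`, nondegenerate)
  pair : ∀ v ∈ Qa ⊔ Qb, v ∉ centralizer ((Qa ⊓ Ub : Subgroup G) : Set G) → ∀ x ∈ Xa,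
    ∃ j ∈ Qa ⊓ Ub, j * v * j⁻¹ * v⁻¹ = x
  pair_le : ∀ V : Subgroup G, V ≤ Qa ⊔ Qb →
    Nat.card V * Nat.card ↥((Qa ⊓ Ub) ⊓ centralizer (V : Set G)) ≤
      Nat.card ↥(Qa ⊓ Ub) * Nat.card ↥(V ⊓ centralizer ((Qa ⊓ Ub : Subgroup G) : Set G))
  -- the elementary abelian complement `A` to `C_{Q_a}(J)` in `Q_a`
  A_Q : A ≤ Qa
  A_el : IsElementaryAbelian 2 A
  A_cen : Qa ⊓ Qb ⊓ centralizer (A : Set G) ≤ Ua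
  A_pair : ∀ v ∈ Qa ⊓ Qb, v ∉ centralizer (A : Set G) → ∀ x ∈ Xa, ∃ a ∈ A, v * a * v⁻¹ * a⁻¹ = x
  A_le : ∀ V : Subgroup G, V ≤ Qa ⊓ Qb →
    Nat.card V * Nat.card ↥(A ⊓ centralizer (V : Set G)) ≤
      Nat.card A * Nat.card ↥(V ⊓ centralizer (A : Set G))

end Cfsg.Agent.Omega.IId.M4.FDat
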