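import Cfsg.Agent.Omega.All.HOneBase
import Cfsg.Agent.Omega.IId.Pair
import Cfsg.Agent.Omega.Half.Basic
import Cfsg.Agent.ZN.Block

/-!
# `F₄(q).2` (graph automorphism in `S`): the input structure and the local analysis
(blueprints/OMEGA-WrMain4-helper441.md, section 7)

`Y = N_G(G₀)`, `G₀ = F₄(q)`, `q` even, `S ≤ Y` a Sylow 2-subgroup of `G`, `|S : S₁| = 2`, `s ∈ S` exchanges the two
types of root groups, `S₁` is a Sylow 2-subgroup of `N_G(X)`.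

* `X` a root group with `S₁ ≤ N(X)` (short or long), `C = C_{G₀}(X)`, `Q = O₂(C)`, `U = Z(Q)`, and `X' = X^s`, ...;
* `E = C ∩ C'`, `QQ = QQ'`, `J = Q ∩ Q'`, `B = C_{QQ}(J) = UU'`, `XX = X × X' = Z(QQ)`;
* `Dat` : all the facts about `F₄(q)` (orders: `|X| = q`, `|J| = q¹⁰`, `|B| = q¹²`, `|Q| = q¹⁵`, `|QQ| = q²⁰`,
  `|S₀| = q²⁴`, `|C_G₀(XX)| = |QQ Sp₄(q)|`);
* `Dat.cen_le` : (A) `C_G(x) ≤ N_G(X) ≤ Y` for `1 ≠ x ∈ X`;
* `Dat.cen_z` : (B) `C_G(z) ≤ Y` for `1 ≠ z ∈ Ω₁(Z(S))`;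
* `Dat.tix` : `XX ∩ XX^g ≠ 1` implies `g ∈ Y`; `Dat.norm_zc` : `N_G(Ω₁(Z(S))) ≤ Y`;
* `Dat.o2_CZ_le` : `O₂(C_G(Z)) ≤ QQ`.
-/

set_option autoImplicit false
set_option linter.unusedSectionVars false

namespace Cfsg.Agent.Omega.IId.M4.Gr

open Subgroup Cfsg Cfsg.Agent.ZN Cfsg.Agent.ZN.ChoiceBase Cfsg.Agent.Omega.MinPar Cfsg.Agent.Omega.Frame
open Cfsg.Agent.Omega.FrameNOFF (CZ)
open Cfsg.Agent.MinSimple.VModule (le_o2 mem_zc zc_le zc_comm o2_le o2_isPGroup le_normalizer_o2 le_centralizer_zc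
  zc_le_centralizer zc_sq normalizer_le_normalizer_zc)
open Cfsg.Agent.MinSimple.Basic (char2_centralizer)
open Cfsg.Agent.Omega.All.HOne (conj_mem_of_normalizer conj_mem_of_normalizer' le_normalizer_of
  normalizer_centralizer_le normalizer_inf_le normalizer_sup_le normalizer_commutator_le)
open scoped commutatorElement

universe u

variable {G : Type u} [Group G]

/-- The facts about `F₄(q).2`; `H' = cj s H`. -/
structure Dat (S S₁ Y : Subgroup G) (s : G) (C X Q U A : Subgroup G) : Prop where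
  S₁_S : S₁ ≤ S
  idx : S₁.relIndex S = 2
  s_S : s ∈ S
  S_Y : S ≤ Y
  N_Y : normalizer (X : Set G) ≤ Y
  /-- `S₁` is a Sylow 2-subgroup of `N_G(X)` -/
  syl : ¬ 2 ∣ S₁.relIndex (normalizer (X : Set G))
  X_el : IsElementaryAbelian 2 X
  X_ne : X ≠ ⊥
  X_inf : X ⊓ cj s X = ⊥
  S₁_X : S₁ ≤ normalizer (X : Set G)
  zcX : zc S ≤ X ⊔ cj s X
  X_U' : X ≤ cj s U
  X_U : X ≤ U
  U_eq : U = Q ⊓ centralizer (Q : Set G)
  Q_S : Q ≤ S₁
  Q_C : Q ≤ C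
  Q_C' : Q ≤ cj s C
  C_X : C ≤ centralizer (X : Set G)
  S₁_C : S₁ ≤ normalizer (C : Set G)
  C_Q : C ≤ normalizer (Q : Set G)
  /-- `Q = O₂(C)` -/
  Q_max : ∀ T : Subgroup G, IsPGroup 2 T → T ≤ C → C ≤ normalizer (T : Set G) → T ≤ Q
  /-- `C_{S₁}(C/Q) ≤ Q` -/
  fld : ∀ t ∈ S₁, (∀ c ∈ C, t * c * t⁻¹ * c⁻¹ ∈ Q) → t ∈ Q
  /-- from the irreducibility of `Q/U` for `C` -/
  irr : ∀ T : Subgroup G, T ≤ Q → C ≤ normalizer (T : Set G) → Q ⊓ centralizer (T : Set G) ≤ T → T = Q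
  comm : ⁅Q, Q⁆ = X
  /-- the torus is transitive on `X#` -/
  trans : ∀ x ∈ X, ∀ x' ∈ X, x ≠ 1 → x' ≠ 1 →
    ∃ y ∈ normalizer (X : Set G), y ∈ normalizer (Q : Set G) ∧ y * x * y⁻¹ = x'
  /-- the torus is transitive on `X# × X'#` -/
  tor : ∀ x ∈ X, ∀ y ∈ cj s X, x ≠ 1 → y ≠ 1 → ∀ x' ∈ X, ∀ y' ∈ cj s X, x' ≠ 1 → y' ≠ 1 →
    ∃ t ∈ Y, t * x * t⁻¹ = x' ∧ t * y * t⁻¹ = y'
  /-- `QQ = O₂(E)` -/
  E_max : ∀ T : Subgroup G, IsPGroup 2 T → T ≤ C ⊓ cj s C →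
    C ⊓ cj s C ≤ normalizer (T : Set G) → T ≤ Q ⊔ cj s Q
  /-- `C_S(E/QQ) ≤ QQ` -/
  E_fld : ∀ t ∈ S, (∀ c ∈ C ⊓ cj s C, t * c * t⁻¹ * c⁻¹ ∈ Q ⊔ cj s Q) → t ∈ Q ⊔ cj s Q
  J_el : IsElementaryAbelian 2 (Q ⊓ cj s Q : Subgroup G)
  J_comm : Q ⊓ cj s Q ≤ ⁅Q ⊔ cj s Q, Q ⊔ cj s Q⁆
  /-- `J = J_a J_b` -/
  J_eq : Q ⊓ cj s Q ≤ (Q ⊓ cj s U) ⊔ (U ⊓ cj s Q)
  UU : U ⊓ cj s U ≤ X ⊔ cj s X
  /-- `[B, B] ≤ XX` -/
  B_comm : ∀ b ∈ (Q ⊔ cj s Q) ⊓ centralizer ((Q ⊓ cj s Q : Subgroup G) : Set G),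
    ∀ c ∈ (Q ⊔ cj s Q) ⊓ centralizer ((Q ⊓ cj s Q : Subgroup G) : Set G), b * c * b⁻¹ * c⁻¹ ∈ X ⊔ cj s X
  /-- the involutions of `B` -/
  B_inv : ∀ b ∈ (Q ⊔ cj s Q) ⊓ centralizer ((Q ⊓ cj s Q : Subgroup G) : Set G), b * b = 1 →
    b ∈ U ⊔ (Q ⊓ cj s Q) ∨ b ∈ cj s U ⊔ (Q ⊓ cj s Q)
  B_inf : (U ⊔ (Q ⊓ cj s Q)) ⊓ (cj s U ⊔ (Q ⊓ cj s Q)) ≤ Q ⊓ cj s Q
  /-- `QQ/B` is irreducible for `ES` -/
  irr1 : ∀ T : Subgroup G, T ≤ Q ⊔ cj s Q → C ⊓ cj s C ≤ normalizer (T : Set G) → S ≤ normalizer (T : Set G) →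
    ¬ T ≤ centralizer ((Q ⊓ cj s Q : Subgroup G) : Set G) →
    Q ⊔ cj s Q ≤ T ⊔ ((Q ⊔ cj s Q) ⊓ centralizer ((Q ⊓ cj s Q : Subgroup G) : Set G))
  /-- `J/XX` is irreducible for `ES` -/
  irr2 : ∀ T : Subgroup G, T ≤ Q ⊓ cj s Q → C ⊓ cj s C ≤ normalizer (T : Set G) → S ≤ normalizer (T : Set G) →
    X ⊔ cj s X ≤ T → ¬ T ≤ X ⊔ cj s X → Q ⊓ cj s Q ≤ T
  /-- `q² q²⁴ f q¹² < q⁴⁰`, `f` the order of the group of field automorphisms induced by `S₁` -/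
  card : Nat.card ↥(X ⊔ cj s X) * Nat.card S₁ *
    Nat.card ↥((Q ⊔ cj s Q) ⊓ centralizer ((Q ⊓ cj s Q : Subgroup G) : Set G)) <
      Nat.card ↥(Q ⊔ cj s Q) * Nat.card ↥(Q ⊔ cj s Q)
  /-- the pairing `J_a/X × QQ/C(J_a) → X` -/
  pair : ∀ v ∈ Q ⊔ cj s Q, v ∉ centralizer ((Q ⊓ cj s U : Subgroup G) : Set G) → ∀ x ∈ X,
    ∃ j ∈ Q ⊓ cj s U, j * v * j⁻¹ * v⁻¹ = x
  pair_le : ∀ V : Subgroup G, V ≤ Q ⊔ cj s Q →
    Nat.card V * Nat.card ↥((Q ⊓ cj s U) ⊓ centralizer (V : Set G)) ≤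
      Nat.card ↥(Q ⊓ cj s U) * Nat.card ↥(V ⊓ centralizer ((Q ⊓ cj s U : Subgroup G) : Set G))
  /-- an elementary abelian complement to `C_Q(J)` in `Q` -/
  A_Q : A ≤ Q
  A_el : IsElementaryAbelian 2 A
  A_cen : Q ⊓ cj s Q ⊓ centralizer (A : Set G) ≤ U
  A_pair : ∀ v ∈ Q ⊓ cj s Q, v ∉ centralizer (A : Set G) → ∀ x ∈ X, ∃ a ∈ A, v * a * v⁻¹ * a⁻¹ = x
  A_le : ∀ V : Subgroup G, V ≤ Q ⊓ cj s Q →
    Nat.card V * Nat.card ↥(A ⊓ centralizer (V : Set G)) ≤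
      Nat.card A * Nat.card ↥(V ⊓ centralizer (A : Set G))

/-! ### Generalities -/

/-- products of two commuting subgroups -/
theorem mem_sup_comm {A B : Subgroup G} (h : ∀ a ∈ A, ∀ b ∈ B, a * b = b * a) {x : G} (hx : x ∈ A ⊔ B) :
    ∃ a ∈ A, ∃ b ∈ B, x = a * b := by
  have hn : A ≤ normalizer (B : Set G) := by
    refine le_normalizer_of fun a ha b hb => ?_
    rw [h a ha b hb, mul_inv_cancel_right]
    exact hb
  rw [← SetLike.mem_coe, coe_mul_of_left_le_normalizer_right A B hn] at hx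
  obtain ⟨a, ha, b, hb, rfl⟩ := Set.mem_mul.1 hx
  exact ⟨a, ha, b, hb, rfl⟩

/-- products of two subgroups, one normalising the other -/
theorem mem_sup_norm {W B N : Subgroup G} (hN : N ≤ normalizer (W : Set G)) (hB : B ≤ N) {x : G} (hx : x ∈ W ⊔ B) :
    ∃ a ∈ W, ∃ b ∈ B, x = a * b := by
  rw [← SetLike.mem_coe, coe_mul_of_right_le_normalizer_left W B (hB.trans hN)] at hx
  obtain ⟨a, ha, b, hb, rfl⟩ := Set.mem_mul.1 hx
  exact ⟨a, ha, b, hb, rfl⟩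

/-- the fibres of `f` on `K` lie in cosets of `D` -/
theorem card_le_fib [Finite G] {K D : Subgroup G} {T : Type*} [Finite T] (f : G → T)
    (h : ∀ k ∈ K, ∀ k' ∈ K, f k = f k' → k'⁻¹ * k ∈ D) : Nat.card K ≤ Nat.card D * Nat.card T := by
  classical
  let g : T → G := fun t => if h : ∃ k ∈ K, f k = t then Classical.choose h else 1
  have hg : ∀ k ∈ K, g (f k) ∈ K ∧ f (g (f k)) = f k := by
    intro k hk
    have h1 : ∃ k' ∈ K, f k' = f k := ⟨k, hk, rfl⟩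
    have h2 : g (f k) = Classical.choose h1 := dif_pos h1
    rw [h2]
    exact Classical.choose_spec h1
  rw [← Nat.card_prod]
  refine Nat.card_le_card_of_injective (fun k : K => ((⟨(g (f k))⁻¹ * k, ?_⟩ : D), f k)) ?_
  · exact h k k.2 _ (hg k k.2).1 (hg k k.2).2.symm
  · intro k k' hkk
    rw [Prod.mk.injEq] at hkk
    obtain ⟨h1, h2⟩ := hkk
    have h3 : (g (f k))⁻¹ * (k : G) = (g (f k'))⁻¹ * k' := congrArg Subtype.val h1
    rw [h2] at h3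
    exact Subtype.ext (mul_left_cancel h3)

/-- a subgroup contained in the union of two subgroups -/
theorem le_or_le {W A B : Subgroup G} (h : ∀ w ∈ W, w ∈ A ∨ w ∈ B) :
    W ≤ A ∨ W ≤ B := by
  by_contra hcon
  push Not at hcon
  obtain ⟨h1, h2⟩ := hcon
  obtain ⟨a, ha, ha'⟩ := SetLike.not_le_iff_exists.1 h1
  obtain ⟨b, hb, hb'⟩ := SetLike.not_le_iff_exists.1 h2
  have ha2 := (h a ha).resolve_left ha'
  have hb2 := (h b hb).resolve_right hb'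
  rcases h (a * b) (mul_mem ha hb) with h3 | h3
  · apply ha'
    have := mul_mem h3 (inv_mem hb2)
    rwa [mul_inv_cancel_right] at this
  · apply hb'
    have := mul_mem (inv_mem ha2) h3
    rwa [inv_mul_cancel_left] at this

theorem cj_sup' (g : G) (H K : Subgroup G) : cj g (H ⊔ K) = cj g H ⊔ cj g K := Subgroup.map_sup _ _ _

theorem conj_mem_cj {g x : G} {H : Subgroup G} (hx : x ∈ H) : g * x * g⁻¹ ∈ cj g H := by
  rw [mem_cj]
  have e : g⁻¹ * (g * x * g⁻¹) * g = x := by group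
  rwa [e]

theorem cen_cj {g x : G} {H : Subgroup G} (h : centralizer ({x} : Set G) ≤ H) :
    centralizer ({g * x * g⁻¹} : Set G) ≤ cj g H := by
  intro y hy
  rw [mem_cj]
  apply h
  rw [mem_centralizer_singleton_iff] at hy ⊢
  calc g⁻¹ * y * g * x = g⁻¹ * (y * (g * x * g⁻¹)) * g := by group
    _ = g⁻¹ * (g * x * g⁻¹ * y) * g := by rw [hy]
    _ = x * (g⁻¹ * y * g) := by group

theorem sq_of {H : Subgroup G} (h : IsElementaryAbelian 2 H) {x : G} (hx : x ∈ H) : x * x = 1 := by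
  have h1 := h.2 x hx
  rwa [pow_two] at h1

theorem comm_of {H : Subgroup G} (h : IsElementaryAbelian 2 H) {x y : G} (hx : x ∈ H) (hy : y ∈ H) :
    x * y = y * x := by
  have h1 := h.1.is_comm.comm ⟨x, hx⟩ ⟨y, hy⟩
  exact congrArg Subtype.val h1

namespace Dat

variable [Finite G] {S : Sylow 2 G} {S₁ Y C X Q U A : Subgroup G} {s : G}
  (D : Dat (S : Subgroup G) S₁ Y s C X Q U A)
include D

/-! ### Elementary consequences -/

theorem s_Y : s ∈ Y := D.S_Y D.s_S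

theorem s_not (h : s ∈ normalizer (X : Set G)) : False := by
  apply D.X_ne
  rw [← D.X_inf, cj_eq_of_mem_normalizer h, inf_idem]

/-- `S₁` is normal in `S` -/
theorem S_S₁ : (S : Subgroup G) ≤ normalizer (S₁ : Set G) := by
  have hN : (S₁.subgroupOf (S : Subgroup G)).Normal := normal_of_index_eq_two D.idx
  refine le_normalizer_of fun g hg t ht => ?_
  have := hN.conj_mem ⟨t, D.S₁_S ht⟩ (mem_subgroupOf.2 ht) ⟨g, hg⟩
  exact mem_subgroupOf.1 this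

theorem s_not_mem : s ∉ S₁ := fun h => D.s_not (D.S₁_X h)

/-- the two cosets -/
theorem cases {t : G} (ht : t ∈ (S : Subgroup G)) : t ∈ S₁ ∨ s⁻¹ * t ∈ S₁ := by
  by_cases h : t ∈ S₁
  · exact Or.inl h
  right
  have h3 := mul_mem_iff_of_index_two (H := S₁.subgroupOf (S : Subgroup G)) D.idx
    (a := (⟨s, D.s_S⟩⁻¹ : (S : Subgroup G))) (b := ⟨t, ht⟩)
  rw [mem_subgroupOf, mem_subgroupOf, mem_subgroupOf] at h3
  refine h3.2 ⟨fun h1 => absurd (by simpa using inv_mem h1) D.s_not_mem, fun h1 => absurd h1 h⟩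

theorem ss : s * s ∈ S₁ := by
  rcases D.cases (t := s * s) (mul_mem D.s_S D.s_S) with h | h
  · exact h
  · rw [inv_mul_cancel_left] at h
    exact absurd h D.s_not_mem

theorem cj_ss {H : Subgroup G} (h : S₁ ≤ normalizer (H : Set G)) : cj s (cj s H) = H := by
  rw [cj_cj]
  exact cj_eq_of_mem_normalizer (h D.ss)

/-- `S₁` normalises `H'` -/
theorem S₁_cj {H : Subgroup G} (h : S₁ ≤ normalizer (H : Set G)) :
    S₁ ≤ normalizer ((cj s H : Subgroup G) : Set G) := by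
  rw [← cj_normalizer]
  intro t ht
  rw [mem_cj]
  apply h
  have := conj_mem_of_normalizer' (D.S_S₁ D.s_S) ht
  exact this

/-- `⟨H, H'⟩` is `S`-invariant -/
theorem S_sup {H : Subgroup G} (h : S₁ ≤ normalizer (H : Set G)) :
    (S : Subgroup G) ≤ normalizer ((H ⊔ cj s H : Subgroup G) : Set G) := by
  intro t ht
  have h1 : s ∈ normalizer ((H ⊔ cj s H : Subgroup G) : Set G) := by
    rw [mem_normalizer_iff_cj, cj_sup', D.cj_ss h, sup_comm]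
  have h2 : S₁ ≤ normalizer ((H ⊔ cj s H : Subgroup G) : Set G) := normalizer_sup_le h (D.S₁_cj h)
  rcases D.cases ht with h3 | h3
  · exact h2 h3
  · have e : t = s * (s⁻¹ * t) := by group
    rw [e]
    exact mul_mem h1 (h2 h3)

theorem S_inf {H : Subgroup G} (h : S₁ ≤ normalizer (H : Set G)) :
    (S : Subgroup G) ≤ normalizer ((H ⊓ cj s H : Subgroup G) : Set G) := by
  intro t ht
  have h1 : s ∈ normalizer ((H ⊓ cj s H : Subgroup G) : Set G) := by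
    rw [mem_normalizer_iff_cj, cj_inf, D.cj_ss h, inf_comm]
  have h2 : S₁ ≤ normalizer ((H ⊓ cj s H : Subgroup G) : Set G) := normalizer_inf_le h (D.S₁_cj h)
  rcases D.cases ht with h3 | h3
  · exact h2 h3
  · have e : t = s * (s⁻¹ * t) := by group
    rw [e]
    exact mul_mem h1 (h2 h3)

theorem Q_two : IsPGroup 2 Q := (S.isPGroup'.to_le D.S₁_S).to_le D.Q_S

/-- `N(C) ≤ N(Q)` -/
theorem norm_C : normalizer (C : Set G) ≤ normalizer (Q : Set G) := by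
  intro g hg
  apply mem_normalizer_of_cj_le
  apply D.Q_max
  · exact isPGroup_cj g D.Q_two
  · rw [← cj_eq_of_mem_normalizer hg]
    exact cj_mono g D.Q_C
  · have h1 := cj_mono g D.C_Q
    rwa [cj_normalizer, cj_eq_of_mem_normalizer hg] at h1

/-- `N(Q) ≤ N(X)` -/
theorem norm_Q : normalizer (Q : Set G) ≤ normalizer (X : Set G) := by
  rw [← D.comm]
  exact normalizer_commutator_le le_rfl le_rfl

theorem S₁_Q : S₁ ≤ normalizer (Q : Set G) := D.S₁_C.trans D.norm_C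

theorem U_Q : U ≤ Q := by
  rw [D.U_eq]
  exact inf_le_left

theorem S₁_U : S₁ ≤ normalizer (U : Set G) := by
  rw [D.U_eq]
  exact normalizer_inf_le D.S₁_Q (normalizer_centralizer_le D.S₁_Q)

theorem X_Q : X ≤ Q := D.X_U.trans D.U_Q

theorem X_S₁ : X ≤ S₁ := D.X_Q.trans D.Q_S

/-! ### (A) -/

/-- an element `≠ 1` of `X` centralised by `S₁` -/
theorem exists_x : ∃ x ∈ X, x ≠ 1 ∧ S₁ ≤ centralizer ({x} : Set G) := by
  obtain ⟨x, hx, hx1, h⟩ := Half.exists_fixed (V := X) ((S.isPGroup'.to_le D.S₁_S).to_le D.X_S₁) D.X_ne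
    (S.isPGroup'.to_le D.S₁_S) D.S₁_X
  refine ⟨x, hx, hx1, fun t ht => mem_centralizer_singleton_iff.2 ?_⟩
  exact mul_inv_eq_iff_eq_mul.1 (h t ht)

/-- 2-subgroups of `N(X)` have order at most `|S₁|` -/
theorem card_le {T : Subgroup G} (hT : IsPGroup 2 T) (hTX : T ≤ normalizer (X : Set G)) :
    Nat.card T ≤ Nat.card S₁ := by
  have : Fact (Nat.Prime 2) := ⟨Nat.prime_two⟩
  have h1 := Half.card_mul_relIndex D.S₁_X
  have h2 : Nat.card T ∣ Nat.card ↥(normalizer (X : Set G)) := card_dvd_of_le hTX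
  rw [← h1] at h2
  obtain ⟨n, hn⟩ := IsPGroup.iff_card.mp hT
  refine Nat.le_of_dvd Nat.card_pos (Nat.Coprime.dvd_of_dvd_mul_right ?_ h2)
  rw [hn]
  exact Nat.Coprime.pow_left n ((Nat.prime_two.coprime_iff_not_dvd).2 D.syl)

/-- a 2-subgroup of `N(X)` normalised by `S₁` lies in `S₁` -/
theorem le_S₁ {T : Subgroup G} (hT : IsPGroup 2 T) (hTX : T ≤ normalizer (X : Set G))
    (hn : S₁ ≤ normalizer (T : Set G)) : T ≤ S₁ := by
  have h2 : IsPGroup 2 (S₁ ⊔ T : Subgroup G) :=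
    IsPGroup.to_sup_of_normal_right' (S.isPGroup'.to_le D.S₁_S) hT hn
  have h3 := D.card_le h2 (sup_le D.S₁_X hTX)
  have h4 : S₁ = S₁ ⊔ T := Subgroup.eq_of_le_of_card_ge le_sup_left h3
  rw [h4]
  exact le_sup_right

theorem card_S : Nat.card (S : Subgroup G) = 2 * Nat.card S₁ := by
  have h1 := Half.card_mul_relIndex D.S₁_S
  rw [D.idx] at h1
  omega

/-- **(A)** for an element centralised by `S₁` -/
theorem o2_eq_one (hc : IsCharacteristicTwoType G) {x : G} (hx : x ∈ X) (hx1 : x ≠ 1)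
    (hxS : S₁ ≤ centralizer ({x} : Set G)) : o2 (centralizer ({x} : Set G)) = Q := by
  have hCx : C ≤ centralizer ({x} : Set G) := by
    refine D.C_X.trans (centralizer_le ?_)
    rintro y rfl
    exact hx
  set O := o2 (centralizer ({x} : Set G)) with hO
  have hO2 : IsPGroup 2 O := o2_isPGroup _
  have hOn : centralizer ({x} : Set G) ≤ normalizer (O : Set G) := le_normalizer_o2 _
  -- `O₁ = O ∩ N(X) ≤ Q`
  have h1 : O ⊓ normalizer (X : Set G) ≤ S₁ := by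
    refine D.le_S₁ (hO2.to_le inf_le_left) inf_le_right ?_
    exact normalizer_inf_le (hxS.trans hOn) (D.S₁_X.trans le_normalizer)
  have hCN : C ≤ normalizer ((O ⊓ normalizer (X : Set G) : Subgroup G) : Set G) :=
    normalizer_inf_le (hCx.trans hOn)
      ((D.C_X.trans (centralizer_le_normalizer _)).trans le_normalizer)
  have h2 : O ⊓ normalizer (X : Set G) ≤ Q := by
    intro t ht
    refine D.fld t (h1 ht) fun c hcC => ?_
    have hSC := D.S₁_C (h1 ht)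
    have h3 : t * c * t⁻¹ * c⁻¹ ∈ C := mul_mem (conj_mem_of_normalizer hSC hcC) (inv_mem hcC)
    have h4 : t * c * t⁻¹ * c⁻¹ ∈ O ⊓ normalizer (X : Set G) := by
      have e : t * c * t⁻¹ * c⁻¹ = t * (c * t⁻¹ * c⁻¹) := by group
      rw [e]
      exact mul_mem ht (conj_mem_of_normalizer (hCN hcC) (inv_mem ht))
    refine D.Q_max ((O ⊓ normalizer (X : Set G)) ⊓ C) ?_ inf_le_right ?_ ⟨h4, h3⟩
    · exact hO2.to_le (inf_le_left.trans inf_le_left)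
    · exact normalizer_inf_le hCN le_normalizer
  -- the index of `O ⊓ S₁` in `O`
  have h5 : O ≤ normalizer (X : Set G) := by
    by_contra hcon
    have hT2 : IsPGroup 2 (S₁ ⊔ O : Subgroup G) :=
      IsPGroup.to_sup_of_normal_right' (S.isPGroup'.to_le D.S₁_S) hO2 (hxS.trans hOn)
    -- `|S₁ ⊔ O| ≤ |S| = 2 |S₁|`
    have h6 : Nat.card ↥(S₁ ⊔ O) ≤ 2 * Nat.card S₁ := by
      rw [← D.card_S]
      obtain ⟨S', hS'⟩ := hT2.exists_le_sylow
      have : Fact (Nat.Prime 2) := ⟨Nat.prime_two⟩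
      have h7 : Nat.card (S : Subgroup G) = Nat.card (S' : Subgroup G) := Nat.card_congr (Sylow.equiv S S').toEquiv
      rw [h7]
      exact Nat.card_le_card_of_injective _ (inclusion_injective hS')
    have h7 : S₁.relIndex (S₁ ⊔ O) = 2 := by
      have h8 := Half.card_mul_relIndex (le_sup_left : S₁ ≤ S₁ ⊔ O)
      have h9 : S₁.relIndex (S₁ ⊔ O) ≠ 1 := by
        intro h10
        exact hcon ((le_sup_right.trans (relIndex_eq_one.1 h10)).trans D.S₁_X)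
      have h10 : S₁.relIndex (S₁ ⊔ O) ≠ 0 := by
        intro h10
        rw [h10, mul_zero] at h8
        exact Nat.card_pos.ne h8
      have h11 : S₁.relIndex (S₁ ⊔ O) ≤ 2 := by
        have h12 : Nat.card S₁ * S₁.relIndex (S₁ ⊔ O) ≤ Nat.card S₁ * 2 := by
          rw [h8, mul_comm _ 2]; exact h6
        exact Nat.le_of_mul_le_mul_left h12 Nat.card_pos
      omega
    obtain ⟨w, hw, hwX⟩ := SetLike.not_le_iff_exists.1 hcon
    -- `C` acts trivially on `O / (O ∩ N(X))`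
    have h8 : ∀ o ∈ O, o ∉ normalizer (X : Set G) → ∀ o' ∈ O, o' ∉ normalizer (X : Set G) →
        o * o'⁻¹ ∈ normalizer (X : Set G) := by
      intro o ho hoX o' ho' ho'X
      have h9 := mul_mem_iff_of_index_two (H := S₁.subgroupOf (S₁ ⊔ O)) h7
        (a := ⟨o, mem_sup_right ho⟩) (b := ⟨o'⁻¹, inv_mem (mem_sup_right ho')⟩)
      rw [mem_subgroupOf, mem_subgroupOf, mem_subgroupOf] at h9
      refine D.S₁_X (h9.2 ⟨fun h => absurd (D.S₁_X h) hoX, fun h => absurd ?_ ho'X⟩)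
      have h10 := D.S₁_X h
      have h11 := inv_mem h10
      simpa using h11
    have h9 : w ∈ normalizer (C : Set G) := by
      have h10 : ∀ c ∈ C, w * c * w⁻¹ ∈ C := by
        intro c hcC
        have h11 : c * w * c⁻¹ ∈ O := conj_mem_of_normalizer (hOn (hCx hcC)) hw
        have h12 : c * w * c⁻¹ ∉ normalizer (X : Set G) := by
          intro h13
          have hcX : c ∈ normalizer (X : Set G) := centralizer_le_normalizer _ (D.C_X hcC)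
          apply hwX
          have e : w = c⁻¹ * (c * w * c⁻¹) * c := by group
          rw [e]
          exact mul_mem (mul_mem (inv_mem hcX) h13) hcX
        have h15 : w * (c * w * c⁻¹)⁻¹ ∈ O := mul_mem hw (inv_mem h11)
        have h13 : w * (c * w * c⁻¹)⁻¹ ∈ Q := h2 (mem_inf.2 ⟨h15, h8 w hw hwX _ h11 h12⟩)
        have h14 := mul_mem (D.Q_C h13) hcC
        have e : w * (c * w * c⁻¹)⁻¹ * c = w * c * w⁻¹ := by group
        rwa [e] at h14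
      apply mem_normalizer_of_cj_le
      rintro _ ⟨c, hcC, rfl⟩
      exact h10 c hcC
    exact hwX (D.norm_Q (D.norm_C h9))
  have h6 : O ≤ Q := (le_inf le_rfl h5).trans h2
  refine D.irr _ h6 (hCx.trans hOn) ?_
  exact le_trans (inf_le_inf (D.Q_C.trans hCx) le_rfl)
    (char2_centralizer hc (by rw [pow_two]; exact sq_of D.X_el hx) hx1)

/-- **(A)**: `C_G(x) ≤ N_G(X)` for `1 ≠ x ∈ X`. -/
theorem cen_X (hc : IsCharacteristicTwoType G) {x : G} (hx : x ∈ X) (hx1 : x ≠ 1) :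
    centralizer ({x} : Set G) ≤ normalizer (Q : Set G) := by
  obtain ⟨x₀, hx₀, hx₀1, hS⟩ := D.exists_x
  obtain ⟨y, hyX, hyQ, rfl⟩ := D.trans x₀ hx₀ x hx hx₀1 hx1
  have h1 : centralizer ({x₀} : Set G) ≤ normalizer (Q : Set G) := by
    rw [← D.o2_eq_one hc hx₀ hx₀1 hS]
    exact le_normalizer_o2 _
  have h2 := cen_cj (g := y) h1
  rwa [cj_normalizer, cj_eq_of_mem_normalizer hyQ] at h2

theorem cen_X' (hc : IsCharacteristicTwoType G) {x : G} (hx : x ∈ cj s X) (hx1 : x ≠ 1) :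
    centralizer ({x} : Set G) ≤ normalizer ((cj s Q : Subgroup G) : Set G) := by
  rw [mem_cj] at hx
  have h1 := cen_cj (g := s) (D.cen_X hc hx (fun h => hx1 (by
    have e : x = s * (s⁻¹ * x * s) * s⁻¹ := by group
    rw [e, h]; group)))
  have e : s * (s⁻¹ * x * s) * s⁻¹ = x := by group
  rwa [e, cj_normalizer] at h1

/-! ### `XX`, `QQ`, `E` -/

theorem X_cen : X ≤ centralizer (X : Set G) := fun x hx =>
  mem_centralizer_iff.2 fun y hy => comm_of D.X_el hy hx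

theorem Q_cen : Q ≤ centralizer (X : Set G) := D.Q_C.trans D.C_X

theorem C'_cen : cj s C ≤ centralizer ((cj s X : Subgroup G) : Set G) := by
  rw [← cj_centralizer]
  exact cj_mono s D.C_X

theorem Q'_C : cj s Q ≤ C := by
  have h1 := cj_mono s D.Q_C'
  rwa [D.cj_ss D.S₁_C] at h1

theorem Q'_S₁ : cj s Q ≤ S₁ := by
  have h1 := cj_mono s D.Q_S
  rwa [cj_eq_of_mem_normalizer (D.S_S₁ D.s_S)] at h1

theorem QQ_S₁ : Q ⊔ cj s Q ≤ S₁ := sup_le D.Q_S D.Q'_S₁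

theorem QQ_E : Q ⊔ cj s Q ≤ C ⊓ cj s C :=
  sup_le (le_inf D.Q_C D.Q_C') (le_inf D.Q'_C (cj_mono s D.Q_C))

theorem X_Q' : X ≤ cj s Q := D.X_U'.trans (cj_mono s D.U_Q)

theorem X'_Q : cj s X ≤ Q := by
  have h1 := cj_mono s D.X_Q'
  rwa [D.cj_ss D.S₁_Q] at h1

theorem XX_J : X ⊔ cj s X ≤ Q ⊓ cj s Q := sup_le (le_inf D.X_Q D.X_Q') (le_inf D.X'_Q (cj_mono s D.X_Q))

theorem J_QQ : Q ⊓ cj s Q ≤ Q ⊔ cj s Q := inf_le_left.trans le_sup_left

theorem XX_QQ : X ⊔ cj s X ≤ Q ⊔ cj s Q := D.XX_J.trans D.J_QQ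

/-- `E` centralises `XX` -/
theorem E_cen : C ⊓ cj s C ≤ centralizer ((X ⊔ cj s X : Subgroup G) : Set G) := by
  rw [le_centralizer_iff]
  exact sup_le (le_centralizer_iff.1 (inf_le_left.trans D.C_X))
    (le_centralizer_iff.1 (inf_le_right.trans D.C'_cen))

theorem XX'_comm {x x' : G} (hx : x ∈ X) (hx' : x' ∈ cj s X) : x * x' = x' * x :=
  (mem_centralizer_iff.1 (D.Q_cen (D.X'_Q hx')) x hx)

theorem mem_XX {t : G} (ht : t ∈ X ⊔ cj s X) : ∃ x ∈ X, ∃ x' ∈ cj s X, t = x * x' :=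
  mem_sup_comm (fun _ ha _ hb => D.XX'_comm ha hb) ht

theorem XX_comm {t t' : G} (ht : t ∈ X ⊔ cj s X) (ht' : t' ∈ X ⊔ cj s X) : t * t' = t' * t :=
  mem_centralizer_iff.1 (D.E_cen (D.QQ_E (D.XX_QQ ht'))) t ht

theorem XX_sq {t : G} (ht : t ∈ X ⊔ cj s X) : t * t = 1 := by
  have h1 := D.XX_J ht
  exact sq_of D.J_el h1

theorem S_E : (S : Subgroup G) ≤ normalizer ((C ⊓ cj s C : Subgroup G) : Set G) := D.S_inf D.S₁_C

theorem S_QQ : (S : Subgroup G) ≤ normalizer ((Q ⊔ cj s Q : Subgroup G) : Set G) := D.S_sup D.S₁_Q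

theorem S_J : (S : Subgroup G) ≤ normalizer ((Q ⊓ cj s Q : Subgroup G) : Set G) := D.S_inf D.S₁_Q

/-- `[J, QQ] ≤ XX` -/
theorem J_comm_QQ {j v : G} (hj : j ∈ Q ⊓ cj s Q) (hv : v ∈ Q ⊔ cj s Q) : j * v * j⁻¹ * v⁻¹ ∈ X ⊔ cj s X := by
  have hX : ∀ a ∈ Q, ∀ b ∈ Q, a * b * a⁻¹ * b⁻¹ ∈ X := by
    intro a ha b hb
    have h1 := commutator_mem_commutator ha hb
    rwa [D.comm] at h1
  have hX' : ∀ a ∈ cj s Q, ∀ b ∈ cj s Q, a * b * a⁻¹ * b⁻¹ ∈ cj s X := by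
    intro a ha b hb
    rw [mem_cj] at ha hb ⊢
    have h1 := hX _ ha _ hb
    have e : s⁻¹ * a * s * (s⁻¹ * b * s) * (s⁻¹ * a * s)⁻¹ * (s⁻¹ * b * s)⁻¹ =
        s⁻¹ * (a * b * a⁻¹ * b⁻¹) * s := by group
    rwa [e] at h1
  -- the set of all `v` with the property is a subgroup
  have key : Q ⊔ cj s Q ≤ normalizer ((X ⊔ cj s X : Subgroup G) : Set G) :=
    (D.QQ_E.trans D.E_cen).trans (centralizer_le_normalizer _)
  have h2 : Q ⊔ cj s Q = closure ((Q : Set G) ∪ (cj s Q : Subgroup G)) := by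
    rw [Subgroup.closure_union, Subgroup.closure_eq, Subgroup.closure_eq]
  rw [h2] at hv
  refine closure_induction (p := fun v _ => j * v * j⁻¹ * v⁻¹ ∈ X ⊔ cj s X) ?_ ?_ ?_ ?_ hv
  · rintro v (hv | hv)
    · exact mem_sup_left (hX j hj.1 v hv)
    · exact mem_sup_right (hX' j hj.2 v hv)
  · have e : j * 1 * j⁻¹ * 1⁻¹ = 1 := by group
    rw [e]
    exact one_mem _
  · intro a b ha hb h3 h4
    rw [← h2] at ha
    have e : j * (a * b) * j⁻¹ * (a * b)⁻¹ = (j * a * j⁻¹ * a⁻¹) * (a * (j * b * j⁻¹ * b⁻¹) * a⁻¹) := by group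
    rw [e]
    exact mul_mem h3 (conj_mem_of_normalizer (key ha) h4)
  · intro a ha h3
    rw [← h2] at ha
    have e : j * a⁻¹ * j⁻¹ * a⁻¹⁻¹ = a⁻¹ * (j * a * j⁻¹ * a⁻¹)⁻¹ * a := by group
    rw [e]
    exact conj_mem_of_normalizer' (key ha) (inv_mem h3)

/-! ### Fusion in `XX` -/

/-- (NF): no element of `X#` is conjugate to an element of `Z#`. -/
theorem nf (hc : IsCharacteristicTwoType G) {x z g : G} (hx : x ∈ X) (hx1 : x ≠ 1) (hz : z ∈ zc (S : Subgroup G))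
    (h : g * x * g⁻¹ = z) : False := by
  have h1 : (S : Subgroup G) ≤ centralizer ({z} : Set G) := fun t ht =>
    mem_centralizer_singleton_iff.2 ((MinSimple.VModule.mem_zc.1 hz).2.1 t ht)
  have h2 : cj g⁻¹ (S : Subgroup G) ≤ normalizer (X : Set G) := by
    rw [cj_le_iff, inv_inv]
    refine h1.trans ?_
    rw [← h]
    exact cen_cj ((D.cen_X hc hx hx1).trans D.norm_Q)
  have h3 := D.card_le (isPGroup_cj g⁻¹ S.isPGroup') h2
  rw [card_cj, D.card_S] at h3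
  have h4 : 0 < Nat.card S₁ := Nat.card_pos
  omega

theorem nf' (hc : IsCharacteristicTwoType G) {x z g : G} (hx : x ∈ cj s X) (hx1 : x ≠ 1)
    (hz : z ∈ zc (S : Subgroup G)) (h : g * x * g⁻¹ = z) : False := by
  rw [mem_cj] at hx
  refine D.nf hc hx (fun h1 => hx1 ?_) hz (g := g * s) ?_
  · have e : x = s * (s⁻¹ * x * s) * s⁻¹ := by group
    rw [e, h1]; group
  · rw [← h]; group

/-- an element of `Z#` -/
theorem exists_z : ∃ z ∈ zc (S : Subgroup G), z ≠ 1 := by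
  have h1 : (S : Subgroup G) ≠ ⊥ := by
    intro h
    apply D.X_ne
    rw [← le_bot_iff, ← h]
    exact D.X_S₁.trans D.S₁_S
  have h2 := Cfsg.Agent.MinSimple.Basic.zc_ne_bot S.isPGroup' h1
  obtain ⟨⟨z, hz⟩, hz1⟩ := ne_bot_iff_exists_ne_one.1 h2
  exact ⟨z, hz, fun h => hz1 (Subtype.ext h)⟩

/-- the two coordinates of `z ∈ Z#` -/
theorem z_coord (hc : IsCharacteristicTwoType G) {z : G} (hz : z ∈ zc (S : Subgroup G)) (hz1 : z ≠ 1) :
    ∃ x ∈ X, ∃ x' ∈ cj s X, x ≠ 1 ∧ x' ≠ 1 ∧ z = x * x' := by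
  obtain ⟨x, hx, x', hx', rfl⟩ := D.mem_XX (D.zcX hz)
  refine ⟨x, hx, x', hx', ?_, ?_, rfl⟩
  · rintro rfl
    rw [one_mul] at hz hz1
    exact D.nf' hc hx' hz1 hz (g := 1) (by group)
  · rintro rfl
    rw [mul_one] at hz hz1
    exact D.nf hc hx hz1 hz (g := 1) (by group)

/-- elements of `XX` outside `X ∪ X'` are conjugate in `Y` to a given element of `Z#` -/
theorem conj_z (hc : IsCharacteristicTwoType G) {z : G} (hz : z ∈ zc (S : Subgroup G)) (hz1 : z ≠ 1) {t : G}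
    (ht : t ∈ X ⊔ cj s X) (htX : t ∉ X) (htX' : t ∉ cj s X) : ∃ y ∈ Y, y * t * y⁻¹ = z := by
  obtain ⟨x, hx, x', hx', hx1, hx'1, rfl⟩ := D.z_coord hc hz hz1
  obtain ⟨a, ha, a', ha', rfl⟩ := D.mem_XX ht
  have ha1 : a ≠ 1 := by
    rintro rfl
    rw [one_mul] at htX'
    exact htX' ha'
  have ha1' : a' ≠ 1 := by
    rintro rfl
    rw [mul_one] at htX
    exact htX ha
  obtain ⟨y, hy, h1, h2⟩ := D.tor a ha a' ha' ha1 ha1' x hx x' hx' hx1 hx'1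
  refine ⟨y, hy, ?_⟩
  rw [← h1, ← h2]; group

theorem norm_X' : normalizer ((cj s X : Subgroup G) : Set G) ≤ Y := by
  rw [← cj_normalizer, cj_le_iff]
  intro y hy
  rw [mem_cj, inv_inv]
  exact mul_mem (mul_mem D.s_Y (D.N_Y hy)) (inv_mem D.s_Y)

/-- `x ∈ X#`, `g x g⁻¹ ∈ X` implies `g ∈ N(X)`. -/
theorem ti_X (hc : IsCharacteristicTwoType G) {x g : G} (hx : x ∈ X) (hx1 : x ≠ 1) (h : g * x * g⁻¹ ∈ X) :
    g ∈ normalizer (X : Set G) := by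
  have h1 : g * x * g⁻¹ ≠ 1 := by
    intro h1
    apply hx1
    have e : x = g⁻¹ * (g * x * g⁻¹) * g := by group
    rw [e, h1]; group
  obtain ⟨y, hyX, -, hy⟩ := D.trans _ h x hx h1 hx1
  have h2 : y * g ∈ centralizer ({x} : Set G) := by
    rw [mem_centralizer_singleton_iff]
    calc y * g * x = (y * (g * x * g⁻¹) * y⁻¹) * (y * g) := by group
      _ = x * (y * g) := by rw [hy]
  have h3 := D.norm_Q (D.cen_X hc hx hx1 h2)
  have e : g = y⁻¹ * (y * g) := by group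
  rw [e]
  exact mul_mem (inv_mem hyX) h3

/-- `x ∈ X# ∪ X'#`, `g x g⁻¹ ∈ XX` implies `g ∈ Y`. -/
theorem fus (hc : IsCharacteristicTwoType G) {x g : G} (hx : x ∈ X ∨ x ∈ cj s X) (hx1 : x ≠ 1)
    (h : g * x * g⁻¹ ∈ X ⊔ cj s X) : g ∈ Y := by
  obtain ⟨z, hz, hz1⟩ := D.exists_z
  -- WLOG `x ∈ X`
  wlog hxX : x ∈ X generalizing x g
  · have hx' := hx.resolve_left hxX
    rw [mem_cj] at hx'
    have h1 := this (x := s⁻¹ * x * s) (g := g * s) (Or.inl hx') (fun h1 => hx1 (by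
      have e : x = s * (s⁻¹ * x * s) * s⁻¹ := by group
      rw [e, h1]; group)) (by
        have e : g * s * (s⁻¹ * x * s) * (g * s)⁻¹ = g * x * g⁻¹ := by group
        rwa [e]) hx'
    have e : g = g * s * s⁻¹ := by group
    rw [e]
    exact mul_mem h1 (inv_mem D.s_Y)
  by_cases h1 : g * x * g⁻¹ ∈ X
  · exact D.N_Y (D.ti_X hc hxX hx1 h1)
  by_cases h2 : g * x * g⁻¹ ∈ cj s X
  · rw [mem_cj] at h2
    have h3 := D.N_Y (D.ti_X hc hxX hx1 (g := s⁻¹ * g) (by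
      have e : s⁻¹ * g * x * (s⁻¹ * g)⁻¹ = s⁻¹ * (g * x * g⁻¹) * s := by group
      rwa [e]))
    have e : g = s * (s⁻¹ * g) := by group
    rw [e]
    exact mul_mem D.s_Y h3
  · obtain ⟨y, -, hy⟩ := D.conj_z hc hz hz1 h h1 h2
    exact (D.nf hc hxX hx1 hz (g := y * g) (by rw [← hy]; group)).elim

/-! ### (B) -/

theorem E_le {z : G} (hz : z ∈ X ⊔ cj s X) : C ⊓ cj s C ≤ centralizer ({z} : Set G) := by
  refine D.E_cen.trans (centralizer_le ?_)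
  rintro y rfl
  exact hz

theorem S_le {z : G} (hz : z ∈ zc (S : Subgroup G)) : (S : Subgroup G) ≤ centralizer ({z} : Set G) := fun t ht =>
  mem_centralizer_singleton_iff.2 ((MinSimple.VModule.mem_zc.1 hz).2.1 t ht)

/-- `O₂(H) ≤ QQ` for all `H ≥ S, E` -/
theorem o2_le_QQ {H : Subgroup G} (hS : (S : Subgroup G) ≤ H) (hE : C ⊓ cj s C ≤ H) : o2 H ≤ Q ⊔ cj s Q := by
  have hO : o2 H ≤ S :=
    Cfsg.Agent.MinSimple.VModule.o2_le_of_sylow S.isPGroup' (Cfsg.Agent.MinSimple.Basic.not_dvd_relIndex S hS)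
  have hEO : C ⊓ cj s C ≤ normalizer (o2 H : Set G) := hE.trans (le_normalizer_o2 _)
  intro t ht
  refine D.E_fld t (hO ht) fun c hcE => ?_
  have h2 : t * c * t⁻¹ * c⁻¹ ∈ C ⊓ cj s C :=
    mul_mem (conj_mem_of_normalizer (D.S_E (hO ht)) hcE) (inv_mem hcE)
  have h3 : t * c * t⁻¹ * c⁻¹ ∈ o2 H := by
    have e : t * c * t⁻¹ * c⁻¹ = t * (c * t⁻¹ * c⁻¹) := by group
    rw [e]
    exact mul_mem ht (conj_mem_of_normalizer (hEO hcE) (inv_mem ht))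
  refine D.E_max (o2 H ⊓ (C ⊓ cj s C)) ((o2_isPGroup _).to_le inf_le_left) inf_le_right ?_ (mem_inf.2 ⟨h3, h2⟩)
  exact normalizer_inf_le hEO le_normalizer

/-- `N(X) ∩ C(z)` normalises `QQ` -/
theorem norm_QQ (hc : IsCharacteristicTwoType G) {z n : G} (hz : z ∈ zc (S : Subgroup G)) (hz1 : z ≠ 1)
    (hn : n ∈ normalizer (X : Set G)) (hnz : n ∈ centralizer ({z} : Set G)) :
    n ∈ normalizer ((Q ⊔ cj s Q : Subgroup G) : Set G) := by
  obtain ⟨x, hx, x', hx', hx1, hx'1, hzx⟩ := D.z_coord hc hz hz1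
  have h1 : n * x * n⁻¹ ∈ X := conj_mem_of_normalizer hn hx
  have h2 : n * z * n⁻¹ = z := by
    rw [mem_centralizer_singleton_iff.1 hnz, mul_inv_cancel_right]
  have h3 : n * x' * n⁻¹ = (n * x * n⁻¹)⁻¹ * x * x' := by
    calc n * x' * n⁻¹ = (n * x * n⁻¹)⁻¹ * (n * (x * x') * n⁻¹) := by group
      _ = (n * x * n⁻¹)⁻¹ * z := by rw [← hzx, h2]
      _ = _ := by rw [hzx]; group
  have h4 : (n * x * n⁻¹)⁻¹ * x ∈ X := mul_mem (inv_mem h1) hx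
  have h5 : n * x' * n⁻¹ ∈ X ⊔ cj s X := by
    rw [h3]
    exact mul_mem (mem_sup_left h4) (mem_sup_right hx')
  have h6 : n * x' * n⁻¹ ∉ X := by
    intro h6
    have h7 := conj_mem_of_normalizer' hn h6
    have e : n⁻¹ * (n * x' * n⁻¹) * n = x' := by group
    rw [e] at h7
    have h8 : x' ∈ X ⊓ cj s X := mem_inf.2 ⟨h7, hx'⟩
    rw [D.X_inf, mem_bot] at h8
    exact hx'1 h8
  have h7 : n * x' * n⁻¹ ∈ cj s X := by
    by_contra h7
    obtain ⟨y, -, hy⟩ := D.conj_z hc hz hz1 h5 h6 h7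
    exact D.nf' hc hx' hx'1 hz (g := y * n) (by rw [← hy]; group)
  have h8 : (n * x * n⁻¹)⁻¹ * x = 1 := by
    have h9 : (n * x * n⁻¹)⁻¹ * x ∈ X ⊓ cj s X := by
      refine mem_inf.2 ⟨h4, ?_⟩
      have h10 := mul_mem h7 (inv_mem hx')
      rw [h3, mul_inv_cancel_right] at h10
      exact h10
    rwa [D.X_inf, mem_bot] at h9
  have h9 : n ∈ centralizer ({x} : Set G) := by
    rw [mem_centralizer_singleton_iff]
    have h10 : n * x * n⁻¹ = x := by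
      exact (inv_mul_eq_one.1 h8)
    calc n * x = n * x * n⁻¹ * n := by group
      _ = x * n := by rw [h10]
  have h10 : n ∈ centralizer ({x'} : Set G) := by
    rw [mem_centralizer_singleton_iff]
    rw [h8, one_mul] at h3
    calc n * x' = n * x' * n⁻¹ * n := by group
      _ = x' * n := by rw [h3]
  exact (normalizer_sup_le (N := normalizer (Q : Set G) ⊓ normalizer ((cj s Q : Subgroup G) : Set G))
    inf_le_left inf_le_right) (mem_inf.2 ⟨D.cen_X hc hx hx1 h9, D.cen_X' hc hx' hx'1 h10⟩)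

/-- an element of `QQ` outside `C(J)`: `[J, u] ≥ X` or `X'` -/
theorem big {u : G} (hu : u ∈ Q ⊔ cj s Q) (huJ : u ∉ centralizer ((Q ⊓ cj s Q : Subgroup G) : Set G)) :
    (∀ x ∈ X, ∃ j ∈ Q ⊓ cj s Q, j * u * j⁻¹ * u⁻¹ = x) ∨
      ∀ x ∈ cj s X, ∃ j ∈ Q ⊓ cj s Q, j * u * j⁻¹ * u⁻¹ = x := by
  have hUQ' : cj s U ≤ cj s Q := cj_mono s D.U_Q
  by_cases h1 : u ∈ centralizer ((Q ⊓ cj s U : Subgroup G) : Set G)
  · by_cases h2 : s⁻¹ * u * s ∈ centralizer ((Q ⊓ cj s U : Subgroup G) : Set G)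
    · exfalso
      apply huJ
      -- `u` centralises `J_a` and `J_b = J_a'`
      have hU1 : cj s (cj s U) = U := D.cj_ss D.S₁_U
      have h3 : u ∈ centralizer ((U ⊓ cj s Q : Subgroup G) : Set G) := by
        have h4 : cj s (Q ⊓ cj s U) = U ⊓ cj s Q := by
          rw [cj_inf, hU1, inf_comm]
        rw [← h4, ← cj_centralizer, mem_cj]
        exact h2
      have h5 : Q ⊓ cj s Q ≤ centralizer ({u} : Set G) := by
        refine D.J_eq.trans (sup_le ?_ ?_)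
        · intro j hj
          exact mem_centralizer_singleton_iff.2 (mem_centralizer_iff.1 h1 j hj)
        · intro j hj
          exact mem_centralizer_singleton_iff.2 (mem_centralizer_iff.1 h3 j hj)
      rw [mem_centralizer_iff]
      intro j hj
      exact mem_centralizer_singleton_iff.1 (h5 hj)
    · right
      intro x hx
      have hu' : s⁻¹ * u * s ∈ Q ⊔ cj s Q := conj_mem_of_normalizer' (D.S_QQ D.s_S) hu
      obtain ⟨j, hj, hj'⟩ := D.pair _ hu' h2 _ (mem_cj.1 hx)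
      refine ⟨s * j * s⁻¹, ?_, ?_⟩
      · exact conj_mem_of_normalizer (D.S_J D.s_S) (mem_inf.2 ⟨hj.1, hUQ' hj.2⟩)
      · calc s * j * s⁻¹ * u * (s * j * s⁻¹)⁻¹ * u⁻¹ =
            s * (j * (s⁻¹ * u * s) * j⁻¹ * (s⁻¹ * u * s)⁻¹) * s⁻¹ := by group
          _ = x := by rw [hj']; group
  · left
    intro x hx
    obtain ⟨j, hj, hj'⟩ := D.pair u hu h1 x hx
    exact ⟨j, mem_inf.2 ⟨hj.1, hUQ' hj.2⟩, hj'⟩

/-- an elementary abelian `S`-invariant subgroup of `B` lies in `J` -/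
theorem le_J {W : Subgroup G} (hW : W ≤ Q ⊔ cj s Q)
    (hWJ : W ≤ centralizer ((Q ⊓ cj s Q : Subgroup G) : Set G)) (hsq : ∀ w ∈ W, w * w = 1)
    (hS : (S : Subgroup G) ≤ normalizer (W : Set G)) : W ≤ Q ⊓ cj s Q := by
  have hWs : cj s W = W := cj_eq_of_mem_normalizer (hS D.s_S)
  have hJs : cj s (Q ⊓ cj s Q) = Q ⊓ cj s Q := cj_eq_of_mem_normalizer (D.S_J D.s_S)
  have hUs : cj s (cj s U) = U := D.cj_ss D.S₁_U
  refine le_trans (le_inf ?_ ?_) D.B_inf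
  · rcases le_or_le fun w hw => D.B_inv w (mem_inf.2 ⟨hW hw, hWJ hw⟩) (hsq w hw) with h | h
    · exact h
    · have h1 := cj_mono s h
      rwa [hWs, cj_sup', hUs, hJs] at h1
  · rcases le_or_le fun w hw => D.B_inv w (mem_inf.2 ⟨hW hw, hWJ hw⟩) (hsq w hw) with h | h
    · have h1 := cj_mono s h
      rwa [hWs, cj_sup', hJs] at h1
    · exact h

/-- **(B)**: `C_G(z) ≤ Y`. -/
theorem cen_z (hc : IsCharacteristicTwoType G) {z : G} (hz : z ∈ zc (S : Subgroup G)) (hz1 : z ≠ 1) :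
    centralizer ({z} : Set G) ≤ Y := by
  intro c hcz
  by_contra hcY
  set H : Subgroup G := centralizer ({z} : Set G) with hH
  have hSH : (S : Subgroup G) ≤ H := D.S_le hz
  have hEH : C ⊓ cj s C ≤ H := D.E_le (D.zcX hz)
  have hOQ := D.o2_le_QQ hSH hEH
  have hHO : H ≤ normalizer (o2 H : Set G) := le_normalizer_o2 _
  -- `W = Ω₁(Z(O))`
  set W := zc (o2 H) with hW
  have hWO : W ≤ o2 H := zc_le _
  have hHW : H ≤ normalizer (W : Set G) := hHO.trans (normalizer_le_normalizer_zc _)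
  have hQQH : Q ⊔ cj s Q ≤ H := D.QQ_E.trans hEH
  have hXW : X ⊔ cj s X ≤ W := by
    intro t ht
    have h1 : t ∈ centralizer (o2 H : Set G) := by
      rw [mem_centralizer_iff]
      intro y hy
      exact (mem_centralizer_iff.1 (D.E_cen (D.QQ_E (hOQ hy))) t ht).symm
    have h2 : t ∈ o2 H := by
      refine char2_centralizer hc ?_ hz1 (mem_inf.2 ⟨hQQH (D.XX_QQ ht), h1⟩)
      exact (MinSimple.VModule.mem_zc.1 hz).2.2
    refine MinSimple.VModule.mem_zc.2 ⟨h2, fun b hb => mem_centralizer_iff.1 h1 b hb, ?_⟩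
    rw [pow_two]
    exact D.XX_sq ht
  have hWQ : W ≤ Q ⊔ cj s Q := hWO.trans hOQ
  have hWc : ∀ a ∈ W, ∀ b ∈ W, a * b = b * a := fun a ha b hb =>
    (MinSimple.VModule.mem_zc.1 hb).2.1 a (hWO ha)
  have hWs : ∀ w ∈ W, w * w = 1 := fun w hw => by
    have := (MinSimple.VModule.mem_zc.1 hw).2.2
    rwa [pow_two] at this
  -- `W` is not contained in `XX`
  obtain ⟨x₀, hx₀, x₀', hx₀', hx₀1, hx₀1', hz0⟩ := D.z_coord hc hz hz1
  have hfus : ∀ x, (x ∈ X ∨ x ∈ cj s X) → x ≠ 1 → c * x * c⁻¹ ∉ X ⊔ cj s X := fun x hx hx1 h =>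
    hcY (D.fus hc hx hx1 h)
  have hW1 : ¬ W ≤ X ⊔ cj s X := by
    intro h
    exact hfus x₀ (Or.inl hx₀) hx₀1 (h (conj_mem_of_normalizer (hHW hcz) (hXW (mem_sup_left hx₀))))
  -- `W ≤ C(J)`
  have hW2 : W ≤ centralizer ((Q ⊓ cj s Q : Subgroup G) : Set G) := by
    by_contra hcon
    have h1 := D.irr1 W hWQ (hEH.trans hHW) (hSH.trans hHW) hcon
    apply hcon
    have hQN : Q ⊔ cj s Q ≤ normalizer (W : Set G) := hQQH.trans hHW
    -- `J ≤ [QQ, QQ] ≤ W`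
    have h2 : Q ⊓ cj s Q ≤ W := by
      refine D.J_comm.trans ?_
      rw [commutator_le]
      intro a ha b hb
      obtain ⟨w, hw, b₁, hb₁, rfl⟩ := mem_sup_norm hQN inf_le_left (h1 ha)
      obtain ⟨w', hw', b₂, hb₂, rfl⟩ := mem_sup_norm hQN inf_le_left (h1 hb)
      have h3 : b₁ * b₂ * b₁⁻¹ * b₂⁻¹ ∈ W := hXW (D.B_comm b₁ hb₁ b₂ hb₂)
      have n1 := hQN hb₁.1
      have n2 := hQN hb₂.1
      rw [commutatorElement_def]
      have e : w * b₁ * (w' * b₂) * (w * b₁)⁻¹ * (w' * b₂)⁻¹ =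
          w * (b₁ * w' * b₁⁻¹) * ((b₁ * b₂ * b₁⁻¹ * b₂⁻¹) * (b₂ * w⁻¹ * b₂⁻¹)) * w'⁻¹ := by group
      rw [e]
      exact mul_mem (mul_mem (mul_mem hw (conj_mem_of_normalizer n1 hw'))
        (mul_mem h3 (conj_mem_of_normalizer n2 (inv_mem hw)))) (inv_mem hw')
    intro w hw
    rw [mem_centralizer_iff]
    intro j hj
    exact hWc j (h2 hj) w hw
  have hW3 : W ≤ Q ⊓ cj s Q := D.le_J hWQ hW2 hWs (hSH.trans hHW)
  have hW4 : Q ⊓ cj s Q ≤ W := D.irr2 W hW3 (hEH.trans hHW) (hSH.trans hHW) hXW hW1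
  have hJW : W = Q ⊓ cj s Q := le_antisymm hW3 hW4
  have hcJ : ∀ j ∈ Q ⊓ cj s Q, c * j * c⁻¹ ∈ Q ⊓ cj s Q := by
    intro j hj
    rw [← hJW] at hj ⊢
    exact conj_mem_of_normalizer (hHW hcz) hj
  -- counting
  set v := c * x₀ * c⁻¹ with hv
  have hvJ : v ∈ Q ⊓ cj s Q := hcJ x₀ (D.XX_J (mem_sup_left hx₀))
  have hcard1 : Nat.card ↥(Q ⊔ cj s Q) ≤
      Nat.card ↥((Q ⊔ cj s Q) ⊓ centralizer ({v} : Set G)) * Nat.card ↥(X ⊔ cj s X) := by
    classical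
    refine card_le_fib (T := ↥(X ⊔ cj s X))
      (fun k => if h : v * k * v⁻¹ * k⁻¹ ∈ X ⊔ cj s X then ⟨v * k * v⁻¹ * k⁻¹, h⟩ else 1) ?_
    intro k hk k' hk' hkk
    have m1 := D.J_comm_QQ hvJ hk
    have m2 := D.J_comm_QQ hvJ hk'
    simp only [dif_pos m1, dif_pos m2, Subtype.mk.injEq] at hkk
    refine mem_inf.2 ⟨mul_mem (inv_mem hk') hk, ?_⟩
    rw [mem_centralizer_singleton_iff]
    have h1 : k * v⁻¹ * k⁻¹ = k' * v⁻¹ * k'⁻¹ := by
      apply mul_left_cancel (a := v)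
      calc v * (k * v⁻¹ * k⁻¹) = v * k * v⁻¹ * k⁻¹ := by group
        _ = v * k' * v⁻¹ * k'⁻¹ := hkk
        _ = v * (k' * v⁻¹ * k'⁻¹) := by group
    have h2 : k'⁻¹ * k * v⁻¹ = v⁻¹ * (k'⁻¹ * k) := by
      calc k'⁻¹ * k * v⁻¹ = k'⁻¹ * (k * v⁻¹ * k⁻¹) * k := by group
        _ = k'⁻¹ * (k' * v⁻¹ * k'⁻¹) * k := by rw [h1]
        _ = v⁻¹ * (k'⁻¹ * k) := by group
    calc k'⁻¹ * k * v = v * (v⁻¹ * (k'⁻¹ * k)) * v := by group
      _ = v * (k'⁻¹ * k * v⁻¹) * v := by rw [h2]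
      _ = v * (k'⁻¹ * k) := by group
  have hD1 : cj c⁻¹ ((Q ⊔ cj s Q) ⊓ centralizer ({v} : Set G)) ≤ centralizer ({x₀} : Set G) := by
    intro y hy
    rw [mem_cj, inv_inv] at hy
    have h2 : c * y * c⁻¹ * v = v * (c * y * c⁻¹) := mem_centralizer_singleton_iff.1 hy.2
    rw [mem_centralizer_singleton_iff]
    calc y * x₀ = c⁻¹ * (c * y * c⁻¹ * v) * c := by rw [hv]; group
      _ = c⁻¹ * (v * (c * y * c⁻¹)) * c := by rw [h2]
      _ = x₀ * y := by rw [hv]; group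
  have hD2 : cj c⁻¹ ((Q ⊔ cj s Q) ⊓ centralizer ({v} : Set G)) ≤ H := by
    intro y hy
    rw [mem_cj] at hy
    have h2 := hQQH hy.1
    have h3 := mul_mem (mul_mem (inv_mem hcz) h2) hcz
    have e : c⁻¹ * (c⁻¹⁻¹ * y * c⁻¹) * c = y := by group
    rwa [e] at h3
  set D₂ := cj c⁻¹ ((Q ⊔ cj s Q) ⊓ centralizer ({v} : Set G)) with hD₂
  have hD3 : D₂ ≤ normalizer (X : Set G) := fun y hy => D.norm_Q (D.cen_X hc hx₀ hx₀1 (hD1 hy))
  have hD4 : D₂ ≤ normalizer ((Q ⊔ cj s Q : Subgroup G) : Set G) := fun y hy =>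
    D.norm_QQ hc hz hz1 (hD3 hy) (hD2 hy)
  have hQQ2 : IsPGroup 2 ↥(Q ⊔ cj s Q) := (S.isPGroup'.to_le D.S₁_S).to_le D.QQ_S₁
  have hD5 : Nat.card ↥(D₂ ⊔ (Q ⊔ cj s Q)) ≤ Nat.card S₁ := by
    refine D.card_le ?_ (sup_le hD3 (D.QQ_S₁.trans D.S₁_X))
    exact IsPGroup.to_sup_of_normal_right' (isPGroup_cj _ (hQQ2.to_le inf_le_left)) hQQ2 hD4
  have hD6 := Cfsg.Agent.ZN.Block.card_sup_mul_card_inf hD4
  have hD7 : Nat.card D₂ = Nat.card ↥((Q ⊔ cj s Q) ⊓ centralizer ({v} : Set G)) := card_cj _ _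
  rw [← hD7] at hcard1
  have hD8 : ¬ D₂ ⊓ (Q ⊔ cj s Q) ≤ (Q ⊔ cj s Q) ⊓ centralizer ((Q ⊓ cj s Q : Subgroup G) : Set G) := by
    intro h
    have h1 : Nat.card ↥(D₂ ⊓ (Q ⊔ cj s Q)) ≤
        Nat.card ↥((Q ⊔ cj s Q) ⊓ centralizer ((Q ⊓ cj s Q : Subgroup G) : Set G)) :=
      Nat.card_le_card_of_injective _ (inclusion_injective h)
    have h2 := D.card
    have h3 : Nat.card ↥(Q ⊔ cj s Q) * Nat.card ↥(Q ⊔ cj s Q) ≤
        Nat.card ↥(X ⊔ cj s X) * Nat.card S₁ *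
          Nat.card ↥((Q ⊔ cj s Q) ⊓ centralizer ((Q ⊓ cj s Q : Subgroup G) : Set G)) := by
      calc Nat.card ↥(Q ⊔ cj s Q) * Nat.card ↥(Q ⊔ cj s Q)
          ≤ (Nat.card D₂ * Nat.card ↥(X ⊔ cj s X)) * Nat.card ↥(Q ⊔ cj s Q) := Nat.mul_le_mul_right _ hcard1
        _ = Nat.card ↥(X ⊔ cj s X) * (Nat.card D₂ * Nat.card ↥(Q ⊔ cj s Q)) := by ring
        _ = Nat.card ↥(X ⊔ cj s X) * (Nat.card ↥(D₂ ⊔ (Q ⊔ cj s Q)) * Nat.card ↥(D₂ ⊓ (Q ⊔ cj s Q))) := by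
            rw [hD6]
        _ ≤ Nat.card ↥(X ⊔ cj s X) * (Nat.card S₁ *
          Nat.card ↥((Q ⊔ cj s Q) ⊓ centralizer ((Q ⊓ cj s Q : Subgroup G) : Set G))) :=
            Nat.mul_le_mul_left _ (Nat.mul_le_mul hD5 h1)
        _ = _ := by ring
    omega
  obtain ⟨u, hu, huB⟩ := SetLike.not_le_iff_exists.1 hD8
  have huQ : u ∈ Q ⊔ cj s Q := hu.2
  have huJ : u ∉ centralizer ((Q ⊓ cj s Q : Subgroup G) : Set G) := fun h => huB (mem_inf.2 ⟨huQ, h⟩)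
  have hcu : c * u * c⁻¹ ∈ Q ⊔ cj s Q := by
    have h1 := mem_cj.1 hu.1
    have h2 := h1.1
    rw [inv_inv] at h2
    exact h2
  have hfin : ∀ x, (∃ j ∈ Q ⊓ cj s Q, j * u * j⁻¹ * u⁻¹ = x) → c * x * c⁻¹ ∈ X ⊔ cj s X := by
    rintro x ⟨j, hj, rfl⟩
    have h1 := D.J_comm_QQ (hcJ j hj) hcu
    have e : c * j * c⁻¹ * (c * u * c⁻¹) * (c * j * c⁻¹)⁻¹ * (c * u * c⁻¹)⁻¹ =
        c * (j * u * j⁻¹ * u⁻¹) * c⁻¹ := by group
    rwa [e] at h1
  rcases D.big huQ huJ with h1 | h1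
  · exact hfus x₀ (Or.inl hx₀) hx₀1 (hfin x₀ (h1 x₀ hx₀))
  · exact hfus x₀' (Or.inr hx₀') hx₀1' (hfin x₀' (h1 x₀' hx₀'))

/-- **(TIX)**: `1 ≠ t ∈ XX`, `g t g⁻¹ ∈ XX` implies `g ∈ Y`. -/
theorem tix (hc : IsCharacteristicTwoType G) {t g : G} (ht : t ∈ X ⊔ cj s X) (ht1 : t ≠ 1)
    (h : g * t * g⁻¹ ∈ X ⊔ cj s X) : g ∈ Y := by
  obtain ⟨z, hz, hz1⟩ := D.exists_z
  by_cases h1 : t ∈ X ∨ t ∈ cj s X
  · exact D.fus hc h1 ht1 h
  by_cases h2 : g * t * g⁻¹ ∈ X ∨ g * t * g⁻¹ ∈ cj s X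
  · have h3 : g * t * g⁻¹ ≠ 1 := by
      intro h3
      apply ht1
      have e : t = g⁻¹ * (g * t * g⁻¹) * g := by group
      rw [e, h3]; group
    have h4 := D.fus hc (g := g⁻¹) h2 h3 (by
      have e : g⁻¹ * (g * t * g⁻¹) * g⁻¹⁻¹ = t := by group
      rwa [e])
    simpa using inv_mem h4
  push Not at h1 h2
  obtain ⟨y, hy, hyt⟩ := D.conj_z hc hz hz1 ht h1.1 h1.2
  obtain ⟨y', hy', hyt'⟩ := D.conj_z hc hz hz1 h h2.1 h2.2
  have h3 : y' * g * y⁻¹ ∈ centralizer ({z} : Set G) := by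
    rw [mem_centralizer_singleton_iff]
    calc y' * g * y⁻¹ * z = y' * g * y⁻¹ * (y * t * y⁻¹) := by rw [hyt]
      _ = (y' * (g * t * g⁻¹) * y'⁻¹) * (y' * g * y⁻¹) := by group
      _ = z * (y' * g * y⁻¹) := by rw [hyt']
  have h4 := D.cen_z hc hz hz1 h3
  have e : g = y'⁻¹ * (y' * g * y⁻¹) * y := by group
  rw [e]
  exact mul_mem (mul_mem (inv_mem hy') h4) hy

/-- `C_G(t) ≤ Y` for `1 ≠ t ∈ XX` -/
theorem cen_XX (hc : IsCharacteristicTwoType G) {t : G} (ht : t ∈ X ⊔ cj s X) (ht1 : t ≠ 1) :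
    centralizer ({t} : Set G) ≤ Y := by
  intro g hg
  refine D.tix hc ht ht1 (g := g) ?_
  rw [mem_centralizer_singleton_iff.1 hg, mul_inv_cancel_right]
  exact ht

/-- `N_G(Z) ≤ Y` -/
theorem norm_zc (hc : IsCharacteristicTwoType G) : normalizer (zc (S : Subgroup G) : Set G) ≤ Y := by
  intro g hg
  obtain ⟨z, hz, hz1⟩ := D.exists_z
  exact D.tix hc (D.zcX hz) hz1 (D.zcX (conj_mem_of_normalizer hg hz))

/-- `O₂(C_G(Z)) ≤ QQ` -/
theorem o2_CZ_le : o2 (CZ (S : Subgroup G)) ≤ Q ⊔ cj s Q := by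
  refine D.o2_le_QQ ?_ ?_
  · exact le_centralizer_zc _
  · exact D.E_cen.trans (centralizer_le D.zcX)

end Dat

end Cfsg.Agent.Omega.IId.M4.Gr
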