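import Cfsg.Agent.Omega.All.HOneOff

/-!
# LEMMA OFF (WrMain4, section 7)

`P ∈ P*(S)`, `V = V_P`, `D = C_V(O²(P))`, `S ≤ Y`, `P` not in `Y`, `A ≤ S` an offender on `V` with
`|[V, A]| ≤ |A / C_A(V)|` and `C_G(y) ≤ Y` for `1 ≠ y ∈ [V, A]`.

* `off_sym` : `P` is not of type `S_{2^m+1}`, `m ≥ 2`;
* `off_one` : `P` is of natural type with `k = 1`;
* `off_bij`, `off_line` : `[V, A]` maps bijectively onto the line `{x | x 1 = 0}` of `V / D`;
* `off_trans` : `N_P([V, A])` is transitive on the elements `≠ 1` of `[V, A]`.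
-/

set_option autoImplicit false
set_option linter.unusedSectionVars false

namespace Cfsg.Agent.Omega.IId.M4

open Subgroup Cfsg Cfsg.Agent.ZN Cfsg.Agent.Omega.MinPar Cfsg.Agent.Omega.FrameFF Cfsg.Agent.Omega.FFThm
open Cfsg.Agent.Lib.SL2Mat Cfsg.Agent.Omega.NatPair Cfsg.Agent.Omega.All.HOne
open Cfsg.Agent.MinSimple.VModule (le_normalizer_zl)
open Equiv (swap)
open scoped commutatorElement

universe u

variable {G : Type u} [Group G]

section sym

variable [Finite G] (hG : IsCharacteristicTwoType G) (S : Sylow 2 G) {P Y A : Subgroup G}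
  (h : IsParS (S : Subgroup G) P) {k m : ℕ}
  (M : SymK (S : Subgroup G) P (zl (S : Subgroup G) P) (cv (S : Subgroup G) P) k m)

include hG h M in
/-- `P` is not of type `S_{2^m+1}` -/
theorem off_sym (hm : 2 ≤ m) (hSY : (S : Subgroup G) ≤ Y) (hPY : ¬ P ≤ Y) (hAS : A ≤ (S : Subgroup G))
    (hoff : Off (zl (S : Subgroup G) P) A)
    (hC : ∀ y ∈ ⁅zl (S : Subgroup G) P, A⁆, y ≠ 1 → ∀ g ∈ P, g * y = y * g → g ∈ Y) : False := by
  obtain ⟨u, huA, hu⟩ := SetLike.not_le_iff_exists.1 hoff.ne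
  obtain ⟨v₀, hv₀, huv⟩ : ∃ v₀ ∈ zl (S : Subgroup G) P, u * v₀ ≠ v₀ * u := by
    by_contra hcon
    push Not at hcon
    exact hu (mem_centralizer_iff.2 fun v hv => (hcon v hv).symm)
  have huS := hAS huA
  have huP := h.le huS
  obtain ⟨i, a, b, τ, hab, ha, hb, hτ, hτa, hτb, b₀, hb₀, hb₀a⟩ := sym_pt hG S h M hAS hoff huA hv₀ huv
  obtain ⟨v, hv, hvp⟩ := exists_isPr M i a 0
  have h1 := hvp.conj M hv hτ.1
  rw [hτa, M.fix0 u huS 1 τ hτ.1 i] at h1
  have hx : IsPr M (u * v * u⁻¹ * v⁻¹) i b a := h1.div M (conjZ huP hv) hv hvp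
  have hxX : u * v * u⁻¹ * v⁻¹ ∈ ⁅zl (S : Subgroup G) P, A⁆ := by
    rw [commutator_comm]
    exact commutator_mem_commutator huA hv
  have hxV : u * v * u⁻¹ * v⁻¹ ∈ zl (S : Subgroup G) P := mul_mem (conjZ huP hv) (inv_mem hv)
  set x := u * v * u⁻¹ * v⁻¹ with hxdef
  have hx' : IsPr M x i a b := hx.comm'
  have hne : x ≠ 1 := by
    intro h2
    have h3 := congrFun hx'.1 a
    rw [h2, sym_one, pr2_left hab] at h3
    exact zero_ne_one h3
  obtain ⟨t, ht, γ, hγ, g1, g2, g3, g4, g5, g6⟩ := sym_move S h M hm (i := i) hab ha hb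
  have htP := h.le ht
  have htp := hx'.conj M hxV hγ
  have hcd : γ i a ≠ γ i b := fun h2 => hab ((γ i).injective h2)
  apply hPY
  have hC1 : ∀ g ∈ P, g * x = x * g → g ∈ Y := hC x hxX hne
  have hC' : ∀ g ∈ P, g * (t * x * t⁻¹) = (t * x * t⁻¹) * g → g ∈ Y := by
    intro g hg hgx
    have h2 : t⁻¹ * g * t ∈ Y := by
      apply hC1 _ (mul_mem (mul_mem (inv_mem htP) hg) htP)
      calc t⁻¹ * g * t * x = t⁻¹ * (g * (t * x * t⁻¹)) * t := by group
        _ = x * (t⁻¹ * g * t) := by rw [hgx]; group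
    have h3 := mul_mem (mul_mem (hSY ht) h2) (inv_mem (hSY ht))
    have e : t * (t⁻¹ * g * t) * t⁻¹ = g := by group
    rwa [e] at h3
  have hCV : ∀ g ∈ P, (∀ v ∈ zl (S : Subgroup G) P, g * v = v * g) → g ∈ Y := fun g hg hgv =>
    hC1 g hg (hgv x hxV)
  have hb₀S := hAS hb₀
  have h2 : IndS S M (sg i (swap a b)) Y := inds_of hG S h M hCV (h.le hb₀S) (hSY hb₀S) hb₀a
  have h3 : IndS S M (sg i (swap (γ i a) (γ i b))) Y := by
    have h4 := as_conj M htP (h.le hb₀S) hγ hb₀a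
    have h5 : (fun j => γ ((1 : Equiv.Perm (Fin k)).symm j) * sg i (swap a b) ((1 : Equiv.Perm (Fin k)).symm j) *
        (γ ((1 : Equiv.Perm (Fin k)).symm j))⁻¹) = sg i (swap (γ i a) (γ i b)) := by
      funext l
      have h6 : (1 : Equiv.Perm (Fin k)).symm l = l := rfl
      rw [h6]
      by_cases hl : l = i
      · rw [hl, sg_self, sg_self, Equiv.mul_swap_eq_swap_mul, mul_inv_cancel_right]
      · rw [sg_ne hl, sg_ne hl, mul_one, mul_inv_cancel]
    rw [h5] at h4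
    have h6 := mul_mem (mul_mem ht hb₀S) (inv_mem ht)
    exact inds_of hG S h M hCV (h.le h6) (hSY h6) h4
  exact sym_full hG S h M hSY hCV g1 g2 g3 g4 ha hb g5 g6 hab hcd hxV (conjZ htP hxV) hC1 hC' hx' htp h2 h3

end sym

section nat

variable [Finite G] (hG : IsCharacteristicTwoType G) (S : Sylow 2 G) {P Y A : Subgroup G}
  (h : IsParS (S : Subgroup G) P) {F : Type} [Field F] {k : ℕ}
  (M : NatK F (S : Subgroup G) P (zl (S : Subgroup G) P) (cv (S : Subgroup G) P) k)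

include hG h in
/-- an offender in `S` induces the unipotent elements of a nonempty set of factors -/
theorem off_idx (hAS : A ≤ (S : Subgroup G)) (hoff : Off (zl (S : Subgroup G) P) A) :
    (∀ a ∈ A, ∃ b, AU S M a b) ∧ ∃ i, ∀ c : F, ∃ a ∈ A, AU S M a (Function.update (0 : Fin k → F) i c) := by
  obtain ⟨I, h1, h2⟩ := M.off A hAS hoff
  have hne : ∃ i, i ∈ I := by
    by_contra hcon
    push Not at hcon
    apply hoff.ne
    intro a ha
    obtain ⟨b, hb, hab⟩ := h1 a ha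
    rw [mem_centralizer_iff]
    exact fun v hv => (au_zero hG S h M (hAS ha) hab (fun i => hb i (hcon i)) v hv).symm
  obtain ⟨i, hi⟩ := hne
  refine ⟨fun a ha => ?_, i, fun c => ?_⟩
  · obtain ⟨b, -, hb⟩ := h1 a ha
    exact ⟨b, hb⟩
  · apply h2
    intro l hl
    rw [Function.update_of_ne]
    · rfl
    · rintro rfl; exact hl hi

omit [Finite G] in
include h in
/-- `[V, A]` lies in the sum of the lines -/
theorem off_line (hAS : A ≤ (S : Subgroup G)) (h1 : ∀ a ∈ A, ∃ b, AU S M a b) :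
    ∀ y ∈ ⁅zl (S : Subgroup G) P, A⁆, y ∈ zl (S : Subgroup G) P ∧ ∀ i, M.e y i 1 = 0 := by
  let L : Subgroup G :=
    { carrier := {y | y ∈ zl (S : Subgroup G) P ∧ ∀ i, M.e y i 1 = 0}
      mul_mem' := by
        rintro x y ⟨hx, hx'⟩ ⟨hy, hy'⟩
        refine ⟨mul_mem hx hy, fun i => ?_⟩
        rw [M.mul x hx y hy, Pi.add_apply, Pi.add_apply, hx', hy', add_zero]
      one_mem' := ⟨one_mem _, fun i => by rw [nat_one]; rfl⟩
      inv_mem' := by
        rintro x ⟨hx, hx'⟩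
        refine ⟨inv_mem hx, fun i => ?_⟩
        rw [nat_inv M hx, Pi.neg_apply, Pi.neg_apply, hx', neg_zero] }
  have hle : ⁅zl (S : Subgroup G) P, A⁆ ≤ L := by
    rw [commutator_comm, commutator_le]
    intro a ha v hv
    obtain ⟨b, hb⟩ := h1 a ha
    have haP := h.le (hAS ha)
    exact ⟨mul_mem (conjZ haP hv) (inv_mem hv), fun i => au_1 S M haP hb hv i⟩
  exact fun y hy => hle hy

include hG h M in
/-- **one summand** -/
theorem off_one [CharP F 2] (hSY : (S : Subgroup G) ≤ Y) (hPY : ¬ P ≤ Y) (hAS : A ≤ (S : Subgroup G))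
    (hoff : Off (zl (S : Subgroup G) P) A)
    (hC : ∀ y ∈ ⁅zl (S : Subgroup G) P, A⁆, y ≠ 1 → ∀ g ∈ P, g * y = y * g → g ∈ Y) (i j : Fin k) : i = j := by
  obtain ⟨-, i₀, h2⟩ := off_idx hG S h M hAS hoff
  have hall : ∀ l, l = i₀ := by
    intro l
    by_contra hl
    obtain ⟨a, ha, hab⟩ := h2 1
    have haP := h.le (hAS ha)
    obtain ⟨v, hv, hvi, -⟩ := nat_single M i₀ ![0, 1]
    have hy : a * v * a⁻¹ * v⁻¹ ∈ ⁅zl (S : Subgroup G) P, A⁆ := by
      rw [commutator_comm]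
      exact commutator_mem_commutator ha hv
    have hyV : a * v * a⁻¹ * v⁻¹ ∈ zl (S : Subgroup G) P := mul_mem (conjZ haP hv) (inv_mem hv)
    have hne : a * v * a⁻¹ * v⁻¹ ≠ 1 := by
      intro h3
      have h4 := au_0 S M haP hab hv i₀
      rw [h3, nat_one, Function.update_self, hvi, one_mul] at h4
      exact zero_ne_one h4
    refine nat_full hG S h M hSY hyV (hC _ hy hne) hPY l ?_
    refine ext2 ?_ ?_
    · rw [au_0 S M haP hab hv, Function.update_of_ne hl]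
      exact zero_mul _
    · rw [au_1 S M haP hab hv]; rfl
  rw [hall i, hall j]

include hG h in
/-- **`[V, A]` maps bijectively onto the line** -/
theorem off_bij [Finite F] (hone : ∀ i j : Fin k, i = j) (hAS : A ≤ (S : Subgroup G))
    (hoff : Off (zl (S : Subgroup G) P) A)
    (hcard : Nat.card ↥⁅zl (S : Subgroup G) P, A⁆ * Nat.card ↥(A ⊓ centralizer (zl (S : Subgroup G) P : Set G)) ≤
      Nat.card A) (i : Fin k) :
    Function.Bijective fun y : (⁅zl (S : Subgroup G) P, A⁆ : Subgroup G) => M.e y i 0 := by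
  obtain ⟨h1, i₀, h2⟩ := off_idx hG S h M hAS hoff
  obtain rfl := hone i i₀
  -- onto
  have hsur : Function.Surjective fun y : (⁅zl (S : Subgroup G) P, A⁆ : Subgroup G) => M.e y i 0 := by
    intro c
    obtain ⟨a, ha, hab⟩ := h2 c
    have haP := h.le (hAS ha)
    obtain ⟨v, hv, hvi, -⟩ := nat_single M i ![0, 1]
    have hy : a * v * a⁻¹ * v⁻¹ ∈ ⁅zl (S : Subgroup G) P, A⁆ := by
      rw [commutator_comm]
      exact commutator_mem_commutator ha hv
    refine ⟨⟨_, hy⟩, ?_⟩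
    show M.e (a * v * a⁻¹ * v⁻¹) i 0 = c
    rw [au_0 S M haP hab hv, Function.update_self, hvi]
    exact mul_one c
  -- `|A| ≤ |F| |C_A(V)|`
  set C : Subgroup G := A ⊓ centralizer (zl (S : Subgroup G) P : Set G) with hC
  choose β hβ using h1
  have hUF : Nat.card A ≤ Nat.card F * Nat.card C := by
    refine card_le_of_fibre (fun a : A => β a a.2 i) ?_
    intro a a' haa
    have haP := h.le (hAS a.2)
    have ha'P := h.le (hAS a'.2)
    refine mem_inf.2 ⟨mul_mem (inv_mem a.2) a'.2, ?_⟩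
    rw [mem_centralizer_iff]
    intro v hv
    refine (comm_of_sec hG S h (mul_mem (inv_mem (hAS a.2)) (hAS a'.2)) ?_ v hv).symm
    have h3 := acts_mul M ha'P (acts_inv M haP (hβ a a.2)) (hβ a' a'.2)
    have h4 : ((fun l => up (β a a.2 l))⁻¹ * (fun l => up (β a' a'.2 l)) :
        Fin k → Matrix.SpecialLinearGroup (Fin 2) F) = 1 := by
      funext l
      rw [hone l i, Pi.mul_apply, Pi.inv_apply, haa, inv_mul_cancel]
      rfl
    rw [h4] at h3
    exact (acts_ker M (mul_mem (inv_mem haP) ha'P) h3).2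
  have hpos : 0 < Nat.card C := Nat.card_pos
  exact hsur.bijective_of_nat_card_le (Nat.le_of_mul_le_mul_right (hcard.trans hUF) hpos)

include hG h M in
/-- **`N_P([V, A])` is transitive on the elements `≠ 1` of `[V, A]`** -/
theorem off_trans [Finite F] (hone : ∀ i j : Fin k, i = j) (hAS : A ≤ (S : Subgroup G))
    (hoff : Off (zl (S : Subgroup G) P) A)
    (hcard : Nat.card ↥⁅zl (S : Subgroup G) P, A⁆ * Nat.card ↥(A ⊓ centralizer (zl (S : Subgroup G) P : Set G)) ≤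
      Nat.card A) {y y' : G} (hy : y ∈ ⁅zl (S : Subgroup G) P, A⁆) (hy' : y' ∈ ⁅zl (S : Subgroup G) P, A⁆)
    (hy1 : y ≠ 1) (hy1' : y' ≠ 1) : ∃ g ∈ P, g * y * g⁻¹ = y' := by
  obtain ⟨h1, i, h2⟩ := off_idx hG S h M hAS hoff
  have hbij := off_bij hG S h M hone hAS hoff hcard i
  have hline := off_line S h M hAS h1
  have hne : ∀ {x : G}, x ∈ ⁅zl (S : Subgroup G) P, A⁆ → x ≠ 1 → M.e x i 0 ≠ 0 := by
    intro x hx hx1 hx0
    apply hx1
    have h3 : (⟨x, hx⟩ : (⁅zl (S : Subgroup G) P, A⁆ : Subgroup G)) = 1 := by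
      apply hbij.1
      show M.e x i 0 = M.e (1 : G) i 0
      rw [hx0, nat_one]
      rfl
    exact congrArg Subtype.val h3
  have hc := hne hy hy1
  have hc' := hne hy' hy1'
  -- the torus element
  set c : F := M.e y' i 0 * (M.e y i 0)⁻¹ with hcdef
  have hc0 : c ≠ 0 := mul_ne_zero hc' (inv_ne_zero hc)
  obtain ⟨g, hg, hgA⟩ := M.lift fun _ => mk c 0 0 c⁻¹ (by rw [mul_inv_cancel₀ hc0]; ring)
  refine ⟨g, hg, ?_⟩
  -- `g` normalises `[V, A]`
  have hgn : ∀ x ∈ ⁅zl (S : Subgroup G) P, A⁆, g * x * g⁻¹ ∈ ⁅zl (S : Subgroup G) P, A⁆ := by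
    have hle : ⁅zl (S : Subgroup G) P, A⁆ ≤
        (⁅zl (S : Subgroup G) P, A⁆ : Subgroup G).comap (MulAut.conj g).toMonoidHom := by
      conv_lhs => rw [commutator_comm]
      rw [commutator_le]
      intro a ha v hv
      rw [mem_comap]
      have haP := h.le (hAS ha)
      obtain ⟨b, hb⟩ := h1 a ha
      -- `g a g⁻¹` and an element `a'` of `A` act in the same way
      obtain ⟨a', ha', hab'⟩ := h2 (c * c * b i)
      have ha'P := h.le (hAS ha')
      have h3 := acts_mul M (inv_mem hg) (acts_mul M haP hgA hb) (acts_inv M hg hgA)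
      have h4 := acts_mul M (mul_mem (mul_mem hg haP) (inv_mem hg)) (acts_inv M ha'P hab') h3
      have h5 : (fun l => up (Function.update (0 : Fin k → F) i (c * c * b i) l))⁻¹ *
          ((fun _ => mk c 0 0 c⁻¹ (by rw [mul_inv_cancel₀ hc0]; ring)) * (fun l => up (b l)) *
            (fun _ => mk c 0 0 c⁻¹ (by rw [mul_inv_cancel₀ hc0]; ring))⁻¹) =
          (1 : Fin k → Matrix.SpecialLinearGroup (Fin 2) F) := by
        funext l
        rw [hone l i]
        simp only [Pi.mul_apply, Pi.inv_apply, Pi.one_apply, Function.update_self]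
        rw [inv_mul_eq_one, eq_mul_inv_iff_mul_eq]
        refine ext_ent ?_ ?_ ?_ ?_ <;> (simp only [ent_mul]; simp)
        field_simp
      rw [h5] at h4
      have h6 := comm_of_both hG S h (acts_ker M
        (mul_mem (inv_mem ha'P) (mul_mem (mul_mem hg haP) (inv_mem hg))) h4) h4.2
      have h7 := h6 _ (conjZ hg hv)
      have e : (MulAut.conj g).toMonoidHom ⁅a, v⁆ = a' * (g * v * g⁻¹) * a'⁻¹ * (g * v * g⁻¹)⁻¹ := by
        show g * ⁅a, v⁆ * g⁻¹ = _
        rw [commutatorElement_def]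
        have e1 : g * (a * v * a⁻¹ * v⁻¹) * g⁻¹ =
          a' * ((a'⁻¹ * (g * a * g⁻¹)) * (g * v * g⁻¹)) * (a'⁻¹ * (g * a * g⁻¹))⁻¹ * a'⁻¹ *
            (g * v * g⁻¹)⁻¹ := by group
        rw [e1, h7]; group
      rw [e, commutator_comm]
      exact commutator_mem_commutator ha' (conjZ hg hv)
    exact fun x hx => hle hx
  have h3 : (⟨g * y * g⁻¹, hgn y hy⟩ : (⁅zl (S : Subgroup G) P, A⁆ : Subgroup G)) = ⟨y', hy'⟩ := by
    apply hbij.1
    show M.e (g * y * g⁻¹) i 0 = M.e y' i 0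
    rw [hgA.1 y (hline y hy).1, ap_zero', mk_00, mk_01, zero_mul, add_zero, hcdef, inv_mul_cancel_right₀ hc]
  exact congrArg Subtype.val h3

end nat

section main

variable [Finite G]

/-- **LEMMA OFF.** -/
theorem off_type (hFF : FFThm.Stmt.{u}) (hG : IsCharacteristicTwoType G) (S : Sylow 2 G) {P Y A : Subgroup G}
    (h : IsParS (S : Subgroup G) P) (hSY : (S : Subgroup G) ≤ Y) (hPY : ¬ P ≤ Y) (hAS : A ≤ (S : Subgroup G))
    (hoff : Off (zl (S : Subgroup G) P) A)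
    (hC : ∀ y ∈ ⁅zl (S : Subgroup G) P, A⁆, y ≠ 1 → ∀ g ∈ P, g * y = y * g → g ∈ Y) :
    ∃ (F : Type) (_ : Field F) (_ : Finite F) (_ : CharP F 2),
      Nonempty (NatK F (S : Subgroup G) P (zl (S : Subgroup G) P) (cv (S : Subgroup G) P) 1) := by
  obtain ⟨-, hCon⟩ := of_off hFF hG S h.toIsPar ((hAS.trans h.le).trans (le_normalizer_zl _ _)) hoff
  rcases hCon with ⟨F, i1, i2, i3, k, hk, ⟨M⟩⟩ | ⟨k, m, -, hm, ⟨M⟩⟩
  · have h1 := off_one hG S h M hSY hPY hAS hoff hC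
    have hk1 : k = 1 := by
      by_contra hne
      have h2 : 1 < k := lt_of_le_of_ne hk (Ne.symm hne)
      have h3 := congrArg Fin.val (h1 ⟨0, hk⟩ ⟨1, h2⟩)
      exact zero_ne_one h3
    subst hk1
    exact ⟨F, i1, i2, i3, ⟨M⟩⟩
  · exact (off_sym hG S h M hm hSY hPY hAS hoff hC).elim

end main

end Cfsg.Agent.Omega.IId.M4
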