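import Cfsg.Agent.Omega.IId.M4.Gr
import Cfsg.Agent.Omega.IId.M4.Off

/-!
# `F₄(q).2` (graph automorphism in `S`): (C) and the END
(blueprints/OMEGA-WrMain4-helper441.md, section 7)

`D : Dat S S₁ Y s C X Q U A`: every `P ∈ P(S)` lies in `Y`, so `Y = G` if `Full S`.
-/

set_option autoImplicit false
set_option linter.unusedSectionVars false

namespace Cfsg.Agent.Omega.IId.M4.Gr

open Subgroup Cfsg Cfsg.Agent.ZN Cfsg.Agent.ZN.ChoiceBase Cfsg.Agent.Omega.MinPar Cfsg.Agent.Omega.Frame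
open Cfsg.Agent.Omega.FrameNOFF (CZ)
open Cfsg.Agent.Omega.FrameLE (AllIn)
open Cfsg.Agent.Omega.FrameFF (cv)
open Cfsg.Agent.Omega.FFThm (Off NatK off_cj)
open Cfsg.Agent.MinSimple.VModule (le_normalizer_zl zc_le_zl normalizer_le_normalizer_zc)
open Cfsg.Agent.Omega.All.HOne (conj_mem_of_normalizer conj_mem_of_normalizer' le_normalizer_of
  normalizer_centralizer_le normalizer_inf_le normalizer_sup_le normalizer_commutator_le zl_comm' zl_sq' nat_mem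
  nat_full)
open scoped commutatorElement

universe u

variable {G : Type u} [Group G]

/-- if `j ↦ [j, v]` maps `K` onto `T`, then `|T| |C_K(v)| ≤ |K|` -/
theorem card_mul_le [Finite G] {K T : Subgroup G} {v : G} (h : ∀ t ∈ T, ∃ j ∈ K, j * v * j⁻¹ * v⁻¹ = t) :
    Nat.card T * Nat.card ↥(K ⊓ centralizer ({v} : Set G)) ≤ Nat.card K := by
  choose! f hf hf' using h
  rw [← Nat.card_prod]
  refine Nat.card_le_card_of_injective
    (fun p : T × ↥(K ⊓ centralizer ({v} : Set G)) => (⟨f p.1 * p.2, mul_mem (hf _ p.1.2) p.2.2.1⟩ : K)) ?_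
  rintro ⟨⟨t, ht⟩, ⟨c, hc⟩⟩ ⟨⟨t', ht'⟩, ⟨c', hc'⟩⟩ heq
  have h1 : f t * c = f t' * c' := congrArg Subtype.val heq
  have h2 : ∀ c ∈ K ⊓ centralizer ({v} : Set G), ∀ t ∈ T, f t * c * v * (f t * c)⁻¹ * v⁻¹ = t := by
    intro c hc t ht
    have h3 : c * v = v * c := mem_centralizer_singleton_iff.1 hc.2
    calc f t * c * v * (f t * c)⁻¹ * v⁻¹ = f t * (c * v) * c⁻¹ * (f t)⁻¹ * v⁻¹ := by group
      _ = f t * v * (f t)⁻¹ * v⁻¹ := by rw [h3]; group
      _ = t := hf' t ht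
  have h3 : t = t' := by
    rw [← h2 c hc t ht, h1, h2 c' hc' t' ht']
  subst h3
  have h4 : c = c' := mul_left_cancel h1
  subst h4
  rfl

namespace Dat

variable [Finite G] {S : Sylow 2 G} {S₁ Y C X Q U A : Subgroup G} {s : G}
  (D : Dat (S : Subgroup G) S₁ Y s C X Q U A)
include D

theorem U'_Q' : cj s U ≤ cj s Q := cj_mono s D.U_Q

theorem Ja_J : Q ⊓ cj s U ≤ Q ⊓ cj s Q := inf_le_inf le_rfl D.U'_Q'

theorem cj_Ja : cj s (Q ⊓ cj s U) = U ⊓ cj s Q := by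
  rw [cj_inf, D.cj_ss D.S₁_U, inf_comm]

theorem Jb_J : U ⊓ cj s Q ≤ Q ⊓ cj s Q := inf_le_inf D.U_Q le_rfl

/-- `J = J_a J_b` -/
theorem J_eq' : Q ⊓ cj s Q = (Q ⊓ cj s U) ⊔ (U ⊓ cj s Q) := le_antisymm D.J_eq (sup_le D.Ja_J D.Jb_J)

/-- `J_a ∩ J_b = XX` -/
theorem Jab : (Q ⊓ cj s U) ⊓ (U ⊓ cj s Q) = X ⊔ cj s X := by
  have h1 : cj s X ≤ U := by
    have h1 := cj_mono s D.X_U'
    rwa [D.cj_ss D.S₁_U] at h1
  apply le_antisymm
  · exact le_trans (le_inf (inf_le_right.trans inf_le_left) (inf_le_left.trans inf_le_right)) D.UU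
  · exact sup_le (le_inf (le_inf D.X_Q D.X_U') (le_inf D.X_U D.X_Q'))
      (le_inf (le_inf D.X'_Q (cj_mono s D.X_U)) (le_inf h1 (cj_mono s D.X_Q)))

/-- `[J_a, QQ] ≤ X` -/
theorem Ja_comm {j v : G} (hj : j ∈ Q ⊓ cj s U) (hv : v ∈ Q ⊔ cj s Q) : j * v * j⁻¹ * v⁻¹ ∈ X := by
  have h2 : Q ⊔ cj s Q = Subgroup.closure ((Q : Set G) ∪ (cj s Q : Subgroup G)) := by
    rw [Subgroup.closure_union, Subgroup.closure_eq, Subgroup.closure_eq]
  have key : Q ⊔ cj s Q ≤ normalizer (X : Set G) := by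
    refine (D.QQ_E.trans inf_le_left).trans (D.C_X.trans (centralizer_le_normalizer _))
  rw [h2] at hv
  refine Subgroup.closure_induction (p := fun v _ => j * v * j⁻¹ * v⁻¹ ∈ X) ?_ ?_ ?_ ?_ hv
  · rintro v (hv | hv)
    · have h1 := commutator_mem_commutator hj.1 hv
      rwa [D.comm] at h1
    · have h1 : j ∈ cj s (centralizer (Q : Set G)) := by
        have h3 := hj.2
        rw [D.U_eq, cj_inf] at h3
        exact h3.2
      rw [cj_centralizer, mem_centralizer_iff] at h1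
      have h3 := h1 v hv
      have e : j * v * j⁻¹ * v⁻¹ = 1 := by rw [← h3]; group
      rw [e]
      exact one_mem _
  · have e : j * 1 * j⁻¹ * 1⁻¹ = 1 := by group
    rw [e]
    exact one_mem _
  · intro a b ha hb h3 h4
    rw [← h2] at ha
    have e : j * (a * b) * j⁻¹ * (a * b)⁻¹ = (j * a * j⁻¹ * a⁻¹) * (a * (j * b * j⁻¹ * b⁻¹) * a⁻¹) := by group
    rw [e]
    exact mul_mem h3 (conj_mem_of_normalizer (key ha) h4)
  · intro a ha h3
    rw [← h2] at ha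
    have e : j * a⁻¹ * j⁻¹ * a⁻¹⁻¹ = a⁻¹ * (j * a * j⁻¹ * a⁻¹)⁻¹ * a := by group
    rw [e]
    exact conj_mem_of_normalizer' (key ha) (inv_mem h3)

theorem Jb_comm {j v : G} (hj : j ∈ U ⊓ cj s Q) (hv : v ∈ Q ⊔ cj s Q) : j * v * j⁻¹ * v⁻¹ ∈ cj s X := by
  rw [← D.cj_Ja, mem_cj] at hj
  rw [mem_cj]
  have h1 := D.Ja_comm hj (conj_mem_of_normalizer' (D.S_QQ D.s_S) hv)
  have e : s⁻¹ * j * s * (s⁻¹ * v * s) * (s⁻¹ * j * s)⁻¹ * (s⁻¹ * v * s)⁻¹ =
      s⁻¹ * (j * v * j⁻¹ * v⁻¹) * s := by group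
  rwa [e] at h1

/-- the second pairing -/
theorem pair' {v : G} (hv : v ∈ Q ⊔ cj s Q) (hvJ : v ∉ centralizer ((U ⊓ cj s Q : Subgroup G) : Set G)) :
    ∀ x ∈ cj s X, ∃ j ∈ U ⊓ cj s Q, j * v * j⁻¹ * v⁻¹ = x := by
  intro x hx
  have h2 : s⁻¹ * v * s ∉ centralizer ((Q ⊓ cj s U : Subgroup G) : Set G) := by
    intro h2
    apply hvJ
    rw [← D.cj_Ja, ← cj_centralizer, mem_cj]
    exact h2
  obtain ⟨j, hj, hj'⟩ := D.pair _ (conj_mem_of_normalizer' (D.S_QQ D.s_S) hv) h2 _ (mem_cj.1 hx)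
  refine ⟨s * j * s⁻¹, ?_, ?_⟩
  · rw [← D.cj_Ja]
    exact conj_mem_cj hj
  · calc s * j * s⁻¹ * v * (s * j * s⁻¹)⁻¹ * v⁻¹ =
        s * (j * (s⁻¹ * v * s) * j⁻¹ * (s⁻¹ * v * s)⁻¹) * s⁻¹ := by group
      _ = x := by rw [hj']; group

theorem pair_le' {V : Subgroup G} (hV : V ≤ Q ⊔ cj s Q) :
    Nat.card V * Nat.card ↥((U ⊓ cj s Q) ⊓ centralizer (V : Set G)) ≤
      Nat.card ↥(U ⊓ cj s Q) * Nat.card ↥(V ⊓ centralizer ((U ⊓ cj s Q : Subgroup G) : Set G)) := by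
  have hsi : cj s⁻¹ (U ⊓ cj s Q) = Q ⊓ cj s U := by rw [← D.cj_Ja, cj_inv_cj]
  have hQQ : cj s⁻¹ (Q ⊔ cj s Q) = Q ⊔ cj s Q :=
    cj_eq_of_mem_normalizer (D.S_QQ (inv_mem D.s_S))
  have h1 := D.pair_le (cj s⁻¹ V) (by rw [← hQQ]; exact cj_mono _ hV)
  rw [← hsi, ← cj_centralizer, ← cj_inf, ← cj_centralizer, ← cj_inf, card_cj, card_cj, card_cj, card_cj] at h1
  exact h1

/-- `J` is an offender on `V` -/
theorem off_J {V : Subgroup G} (hV : V ≤ Q ⊔ cj s Q) :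
    Nat.card V * Nat.card ↥((Q ⊓ cj s Q) ⊓ centralizer (V : Set G)) ≤
      Nat.card ↥(Q ⊓ cj s Q) * Nat.card ↥(V ⊓ centralizer ((Q ⊓ cj s Q : Subgroup G) : Set G)) := by
  have hXV : X ⊔ cj s X ≤ centralizer (V : Set G) := by
    intro t ht
    rw [mem_centralizer_iff]
    intro v hv
    exact (mem_centralizer_iff.1 (D.E_cen (D.QQ_E (hV hv))) t ht).symm
  -- the four inequalities
  have h1 := D.pair_le V hV
  have h2 := D.pair_le' (V := V ⊓ centralizer ((Q ⊓ cj s U : Subgroup G) : Set G)) (inf_le_left.trans hV)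
  have h3 : Nat.card ↥((U ⊓ cj s Q) ⊓ centralizer (V : Set G)) ≤ Nat.card ↥((U ⊓ cj s Q) ⊓
      centralizer ((V ⊓ centralizer ((Q ⊓ cj s U : Subgroup G) : Set G) : Subgroup G) : Set G)) :=
    Nat.card_le_card_of_injective _ (inclusion_injective (inf_le_inf le_rfl (centralizer_le inf_le_left)))
  have h4 : V ⊓ centralizer ((Q ⊓ cj s U : Subgroup G) : Set G) ⊓
      centralizer ((U ⊓ cj s Q : Subgroup G) : Set G) = V ⊓ centralizer ((Q ⊓ cj s Q : Subgroup G) : Set G) := by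
    apply le_antisymm
    · refine le_inf (inf_le_left.trans inf_le_left) ?_
      rw [D.J_eq', le_centralizer_iff]
      refine sup_le ?_ ?_
      · rw [le_centralizer_iff]; exact inf_le_left.trans inf_le_right
      · rw [le_centralizer_iff]; exact inf_le_right
    · exact le_inf (inf_le_inf le_rfl (centralizer_le D.Ja_J))
        (inf_le_right.trans (centralizer_le D.Jb_J))
  rw [h4] at h2
  -- products
  have hJab : (Q ⊓ cj s U) ≤ normalizer ((U ⊓ cj s Q : Subgroup G) : Set G) := by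
    refine le_normalizer_of fun a ha b hb => ?_
    rw [comm_of D.J_el (D.Ja_J ha) (D.Jb_J hb), mul_inv_cancel_right]
    exact hb
  have h5 := Cfsg.Agent.ZN.Block.card_sup_mul_card_inf hJab
  rw [← D.J_eq', D.Jab] at h5
  have hJab' : (Q ⊓ cj s U) ⊓ centralizer (V : Set G) ≤
      normalizer (((U ⊓ cj s Q) ⊓ centralizer (V : Set G) : Subgroup G) : Set G) := by
    refine le_normalizer_of fun a ha b hb => ?_
    rw [comm_of D.J_el (D.Ja_J ha.1) (D.Jb_J hb.1), mul_inv_cancel_right]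
    exact hb
  have h6 := Cfsg.Agent.ZN.Block.card_sup_mul_card_inf hJab'
  have h7 : (Q ⊓ cj s U) ⊓ centralizer (V : Set G) ⊓ ((U ⊓ cj s Q) ⊓ centralizer (V : Set G)) = X ⊔ cj s X := by
    apply le_antisymm
    · rw [← D.Jab]
      exact inf_le_inf inf_le_left inf_le_left
    · exact le_inf (le_inf (by rw [← D.Jab]; exact inf_le_left) hXV)
        (le_inf (by rw [← D.Jab]; exact inf_le_right) hXV)
  have h8 : (Q ⊓ cj s Q) ⊓ centralizer (V : Set G) ≤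
      (Q ⊓ cj s U) ⊓ centralizer (V : Set G) ⊔ (U ⊓ cj s Q) ⊓ centralizer (V : Set G) := by
    intro j hj
    obtain ⟨a, ha, b, hb, rfl⟩ := mem_sup_comm
      (fun a ha b hb => comm_of D.J_el (D.Ja_J ha) (D.Jb_J hb)) (D.J_eq hj.1)
    have key : ∀ v ∈ V, a * v * a⁻¹ * v⁻¹ = 1 ∧ b * v * b⁻¹ * v⁻¹ = 1 := by
      intro v hv
      have h9 := D.Ja_comm ha (hV hv)
      have h10 := D.Jb_comm hb (hV hv)
      have h11 : v * (a * b) = a * b * v := mem_centralizer_iff.1 hj.2 v hv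
      have h12 : a * (b * v * b⁻¹ * v⁻¹) = (b * v * b⁻¹ * v⁻¹) * a := by
        have h13 : b * v * b⁻¹ * v⁻¹ ∈ Q ⊓ cj s Q := D.XX_J (mem_sup_right h10)
        exact comm_of D.J_el (D.Ja_J ha) h13
      have h13 : (b * v * b⁻¹ * v⁻¹) * (a * v * a⁻¹ * v⁻¹) = 1 := by
        calc (b * v * b⁻¹ * v⁻¹) * (a * v * a⁻¹ * v⁻¹)
            = (b * v * b⁻¹ * v⁻¹) * a * (v * a⁻¹ * v⁻¹) := by group
          _ = a * (b * v * b⁻¹ * v⁻¹) * (v * a⁻¹ * v⁻¹) := by rw [h12]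
          _ = (a * b * v) * (b⁻¹ * a⁻¹) * v⁻¹ := by group
          _ = v * (a * b) * (b⁻¹ * a⁻¹) * v⁻¹ := by rw [h11]
          _ = 1 := by group
      have h14 : b * v * b⁻¹ * v⁻¹ ∈ X ⊓ cj s X := by
        refine mem_inf.2 ⟨?_, h10⟩
        rw [eq_inv_of_mul_eq_one_left h13]
        exact inv_mem h9
      rw [D.X_inf, mem_bot] at h14
      rw [h14, one_mul] at h13
      exact ⟨h13, h14⟩
    have hcom : ∀ {c : G}, (∀ v ∈ V, c * v * c⁻¹ * v⁻¹ = 1) → c ∈ centralizer (V : Set G) := by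
      intro c hc
      rw [mem_centralizer_iff]
      intro v hv
      have := mul_inv_eq_one.1 (hc v hv)
      exact (mul_inv_eq_iff_eq_mul.1 this).symm
    exact mul_mem (mem_sup_left (mem_inf.2 ⟨ha, hcom fun v hv => (key v hv).1⟩))
      (mem_sup_right (mem_inf.2 ⟨hb, hcom fun v hv => (key v hv).2⟩))
  have h9 : Nat.card ↥((Q ⊓ cj s Q) ⊓ centralizer (V : Set G)) * Nat.card ↥(X ⊔ cj s X) ≤
      Nat.card ↥((Q ⊓ cj s U) ⊓ centralizer (V : Set G)) * Nat.card ↥((U ⊓ cj s Q) ⊓ centralizer (V : Set G)) := by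
    rw [← h6, h7]
    exact Nat.mul_le_mul_right _ (Nat.card_le_card_of_injective _ (inclusion_injective h8))
  -- the computation
  have hpos : 0 < Nat.card ↥(X ⊔ cj s X) := Nat.card_pos
  refine Nat.le_of_mul_le_mul_right ?_ hpos
  calc Nat.card V * Nat.card ↥((Q ⊓ cj s Q) ⊓ centralizer (V : Set G)) * Nat.card ↥(X ⊔ cj s X)
      = Nat.card V * (Nat.card ↥((Q ⊓ cj s Q) ⊓ centralizer (V : Set G)) * Nat.card ↥(X ⊔ cj s X)) := by ring
    _ ≤ Nat.card V * (Nat.card ↥((Q ⊓ cj s U) ⊓ centralizer (V : Set G)) *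
          Nat.card ↥((U ⊓ cj s Q) ⊓ centralizer (V : Set G))) := Nat.mul_le_mul_left _ h9
    _ = (Nat.card V * Nat.card ↥((Q ⊓ cj s U) ⊓ centralizer (V : Set G))) *
          Nat.card ↥((U ⊓ cj s Q) ⊓ centralizer (V : Set G)) := by ring
    _ ≤ (Nat.card ↥(Q ⊓ cj s U) * Nat.card ↥(V ⊓ centralizer ((Q ⊓ cj s U : Subgroup G) : Set G))) *
          Nat.card ↥((U ⊓ cj s Q) ⊓ centralizer ((V ⊓ centralizer ((Q ⊓ cj s U : Subgroup G) : Set G) :
            Subgroup G) : Set G)) := Nat.mul_le_mul h1 h3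
    _ = Nat.card ↥(Q ⊓ cj s U) * (Nat.card ↥(V ⊓ centralizer ((Q ⊓ cj s U : Subgroup G) : Set G)) *
          Nat.card ↥((U ⊓ cj s Q) ⊓ centralizer ((V ⊓ centralizer ((Q ⊓ cj s U : Subgroup G) : Set G) :
            Subgroup G) : Set G))) := by ring
    _ ≤ Nat.card ↥(Q ⊓ cj s U) * (Nat.card ↥(U ⊓ cj s Q) *
          Nat.card ↥(V ⊓ centralizer ((Q ⊓ cj s Q : Subgroup G) : Set G))) := Nat.mul_le_mul_left _ h2
    _ = (Nat.card ↥(Q ⊓ cj s U) * Nat.card ↥(U ⊓ cj s Q)) *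
          Nat.card ↥(V ⊓ centralizer ((Q ⊓ cj s Q : Subgroup G) : Set G)) := by ring
    _ = (Nat.card ↥(Q ⊓ cj s Q) * Nat.card ↥(X ⊔ cj s X)) *
          Nat.card ↥(V ⊓ centralizer ((Q ⊓ cj s Q : Subgroup G) : Set G)) := by rw [h5]
    _ = _ := by ring

/-- an `S`-invariant `V ≤ QQ` which does not centralise `J`: `[V, J] = XX`, `|XX| |C_J(V)| ≤ |J|` -/
theorem big_J {V : Subgroup G} (hV : V ≤ Q ⊔ cj s Q) (hS : (S : Subgroup G) ≤ normalizer (V : Set G))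
    (hVJ : ¬ V ≤ centralizer ((Q ⊓ cj s Q : Subgroup G) : Set G)) :
    ⁅V, Q ⊓ cj s Q⁆ = X ⊔ cj s X ∧
      Nat.card ↥(X ⊔ cj s X) * Nat.card ↥((Q ⊓ cj s Q) ⊓ centralizer (V : Set G)) ≤ Nat.card ↥(Q ⊓ cj s Q) := by
  have hVs : cj s V = V := cj_eq_of_mem_normalizer (hS D.s_S)
  have hJb : cj s (U ⊓ cj s Q) = Q ⊓ cj s U := by
    rw [cj_inf, D.cj_ss D.S₁_Q, inf_comm]
  -- `V` centralises neither `J_a` nor `J_b`
  have h1 : ∀ (_ : V ≤ centralizer ((Q ⊓ cj s U : Subgroup G) : Set G))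
      (_ : V ≤ centralizer ((U ⊓ cj s Q : Subgroup G) : Set G)), False := by
    intro h1 h2
    apply hVJ
    rw [D.J_eq', le_centralizer_iff]
    exact sup_le (le_centralizer_iff.1 h1) (le_centralizer_iff.1 h2)
  have h2 : ¬ V ≤ centralizer ((Q ⊓ cj s U : Subgroup G) : Set G) := by
    intro h
    refine h1 h ?_
    have h2 := cj_mono s h
    rwa [hVs, cj_centralizer, D.cj_Ja] at h2
  have h3 : ¬ V ≤ centralizer ((U ⊓ cj s Q : Subgroup G) : Set G) := by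
    intro h
    refine h1 ?_ h
    have h2 := cj_mono s h
    rwa [hVs, cj_centralizer, hJb] at h2
  obtain ⟨v, hv, hv1, hv2⟩ : ∃ v ∈ V, v ∉ centralizer ((Q ⊓ cj s U : Subgroup G) : Set G) ∧
      v ∉ centralizer ((U ⊓ cj s Q : Subgroup G) : Set G) := by
    by_contra hcon
    push Not at hcon
    rcases le_or_le (W := V) (A := centralizer ((Q ⊓ cj s U : Subgroup G) : Set G))
      (B := centralizer ((U ⊓ cj s Q : Subgroup G) : Set G)) (fun w hw => by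
        by_cases h : w ∈ centralizer ((Q ⊓ cj s U : Subgroup G) : Set G)
        · exact Or.inl h
        · exact Or.inr (hcon w hw h)) with h | h
    · exact h2 h
    · exact h3 h
  -- `j ↦ [j, v]` is onto
  have h4 : ∀ t ∈ X ⊔ cj s X, ∃ j ∈ Q ⊓ cj s Q, j * v * j⁻¹ * v⁻¹ = t := by
    intro t ht
    obtain ⟨x, hx, x', hx', rfl⟩ := D.mem_XX ht
    obtain ⟨a, ha, ha'⟩ := D.pair v (hV hv) hv1 x hx
    obtain ⟨b, hb, hb'⟩ := D.pair' (hV hv) hv2 x' hx'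
    refine ⟨b * a, mul_mem (D.Jb_J hb) (D.Ja_J ha), ?_⟩
    have h5 : b * x = x * b := comm_of D.J_el (D.Jb_J hb) (D.XX_J (mem_sup_left hx))
    calc b * a * v * (b * a)⁻¹ * v⁻¹ = b * (a * v * a⁻¹ * v⁻¹) * (v * b⁻¹ * v⁻¹) := by group
      _ = b * x * (v * b⁻¹ * v⁻¹) := by rw [ha']
      _ = x * b * (v * b⁻¹ * v⁻¹) := by rw [h5]
      _ = x * (b * v * b⁻¹ * v⁻¹) := by group
      _ = x * x' := by rw [hb']
  refine ⟨le_antisymm ?_ ?_, ?_⟩
  · rw [commutator_comm, commutator_le]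
    intro j hj w hw
    exact D.J_comm_QQ hj (hV hw)
  · intro t ht
    obtain ⟨j, hj, rfl⟩ := h4 t ht
    rw [commutator_comm]
    exact commutator_mem_commutator hj hv
  · refine le_trans (Nat.mul_le_mul_left _ (Nat.card_le_card_of_injective _ (inclusion_injective ?_))) (card_mul_le h4)
    exact inf_le_inf le_rfl (centralizer_le (Set.singleton_subset_iff.2 hv))

/-- **(C)**: `P ≤ Y` for `P ∈ P*(S)`. -/
theorem par_le (hFF : FFThm.Stmt.{u}) (hc : IsCharacteristicTwoType G) (hAI : AllIn (S : Subgroup G)) {P : Subgroup G}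
    (hP : IsParS (S : Subgroup G) P) : P ≤ Y := by
  by_contra hPY
  have hSP : (S : Subgroup G) ≤ P := hP.isLoc.le
  have hVQ : zl (S : Subgroup G) P ≤ Q ⊔ cj s Q := (hAI P hP).trans D.o2_CZ_le
  have hPV : P ≤ normalizer (zl (S : Subgroup G) P : Set G) := le_normalizer_zl _ _
  have hSV := hSP.trans hPV
  have hVc : ∀ v ∈ zl (S : Subgroup G) P, ∀ w ∈ zl (S : Subgroup G) P, v * w = w * v := fun v hv w hw =>
    zl_comm' hc S hP hv hw
  have hVs : ∀ v ∈ zl (S : Subgroup G) P, v * v = 1 := fun v hv => zl_sq' hc S hP hv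
  have hcen : ∀ y ∈ X ⊔ cj s X, y ≠ 1 → ∀ g ∈ P, g * y = y * g → g ∈ Y := fun y hy hy1 g _ hg =>
    D.cen_XX hc hy hy1 (mem_centralizer_singleton_iff.2 hg)
  obtain ⟨z, hz, hz1⟩ := D.exists_z
  obtain ⟨x₀, hx₀, x₀', hx₀', hx₀1, hx₀1', hz0⟩ := D.z_coord hc hz hz1
  have hJS : Q ⊓ cj s Q ≤ (S : Subgroup G) := (D.J_QQ.trans D.QQ_S₁).trans D.S₁_S
  -- (C1)
  have hC1 : zl (S : Subgroup G) P ≤ centralizer ((Q ⊓ cj s Q : Subgroup G) : Set G) := by
    by_contra hn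
    obtain ⟨h1, h2⟩ := D.big_J hVQ hSV hn
    have hoff : Off (zl (S : Subgroup G) P) (Q ⊓ cj s Q) :=
      ⟨D.J_el, fun h => hn (le_centralizer_iff.1 h), D.off_J hVQ⟩
    obtain ⟨F, i1, i2, i3, ⟨M⟩⟩ := off_type hFF hc S hP D.S_Y hPY hJS hoff (fun y hy => hcen y (h1 ▸ hy))
    obtain ⟨g, -, hg⟩ := off_trans hc S hP M (fun i j => Subsingleton.elim i j) hJS hoff (by rw [h1]; exact h2)
      (y := x₀) (y' := z) (by rw [h1]; exact mem_sup_left hx₀) (by rw [h1]; exact D.zcX hz) hx₀1 hz1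
    exact D.nf hc hx₀ hx₀1 hz hg
  -- (C2)
  have hC2 : zl (S : Subgroup G) P ≤ Q ⊓ cj s Q := D.le_J hVQ hC1 hVs hSV
  -- (C3)
  have hzV : z ∈ zl (S : Subgroup G) P := zc_le_zl _ _ hz
  have hC3 : ¬ zl (S : Subgroup G) P ≤ X ⊔ cj s X := by
    intro h
    apply hPY
    intro g hg
    exact D.tix hc (D.zcX hz) hz1 (h (conj_mem_of_normalizer (hPV hg) hzV))
  have hVc' : cj s (zl (S : Subgroup G) P) = zl (S : Subgroup G) P := cj_eq_of_mem_normalizer (hSV D.s_S)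
  have hVA : ¬ zl (S : Subgroup G) P ≤ centralizer (A : Set G) := by
    intro h
    apply hC3
    have h1 : zl (S : Subgroup G) P ≤ U := (le_inf hC2 h).trans D.A_cen
    have h2 := cj_mono s h1
    rw [hVc'] at h2
    exact (le_inf h1 h2).trans D.UU
  obtain ⟨v, hv, hvA⟩ := SetLike.not_le_iff_exists.1 hVA
  have hAS : A ≤ (S : Subgroup G) := (D.A_Q.trans D.Q_S).trans D.S₁_S
  have hAS' : cj s A ≤ (S : Subgroup G) := by
    have h1 := cj_mono s hAS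
    rwa [cj_eq_of_mem_normalizer (le_normalizer D.s_S)] at h1
  have hoff : Off (zl (S : Subgroup G) P) A :=
    ⟨D.A_el, fun h => hVA (le_centralizer_iff.1 h), D.A_le _ hC2⟩
  have hoff' : Off (zl (S : Subgroup G) P) (cj s A) := by
    have h1 := off_cj hoff s
    rwa [hVc'] at h1
  have hcomm : ⁅zl (S : Subgroup G) P, A⁆ = X := by
    apply le_antisymm
    · rw [commutator_le]
      intro w hw a ha
      rw [← D.comm]
      exact commutator_mem_commutator (hC2 hw).1 (D.A_Q ha)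
    · intro x hx
      obtain ⟨a, ha, rfl⟩ := D.A_pair v (hC2 hv) hvA x hx
      exact commutator_mem_commutator hv ha
  have hcard : Nat.card ↥⁅zl (S : Subgroup G) P, A⁆ * Nat.card ↥(A ⊓ centralizer (zl (S : Subgroup G) P : Set G)) ≤
      Nat.card A := by
    rw [hcomm]
    have h4 : ∀ t ∈ X, ∃ a ∈ A, a * v * a⁻¹ * v⁻¹ = t := by
      intro t ht
      obtain ⟨a, ha, h5⟩ := D.A_pair v (hC2 hv) hvA _ (inv_mem ht)
      refine ⟨a, ha, ?_⟩
      rw [← inv_inj, ← h5]; group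
    refine le_trans (Nat.mul_le_mul_left _ (Nat.card_le_card_of_injective _ (inclusion_injective ?_)))
      (card_mul_le h4)
    exact inf_le_inf le_rfl (centralizer_le (Set.singleton_subset_iff.2 hv))
  have hcj : cj s ⁅zl (S : Subgroup G) P, A⁆ = ⁅zl (S : Subgroup G) P, cj s A⁆ := by
    refine (Subgroup.map_commutator _ _ _).trans ?_
    show ⁅cj s (zl (S : Subgroup G) P), cj s A⁆ = _
    rw [hVc']
  have hcard' : Nat.card ↥⁅zl (S : Subgroup G) P, cj s A⁆ *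
      Nat.card ↥(cj s A ⊓ centralizer (zl (S : Subgroup G) P : Set G)) ≤ Nat.card ↥(cj s A) := by
    have h1 : cj s (A ⊓ centralizer (zl (S : Subgroup G) P : Set G)) =
        cj s A ⊓ centralizer (zl (S : Subgroup G) P : Set G) := by
      rw [cj_inf, cj_centralizer, hVc']
    rw [← hcj, ← h1, card_cj, card_cj, card_cj]
    exact hcard
  obtain ⟨F, i1, i2, i3, ⟨M⟩⟩ := off_type hFF hc S hP D.S_Y hPY hAS hoff
    (fun y hy => hcen y (mem_sup_left (hcomm ▸ hy)))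
  have hone : ∀ i j : Fin 1, i = j := fun i j => Subsingleton.elim i j
  have hb' := off_bij hc S hP M hone hAS' hoff' hcard' 0
  have hl := off_line S hP M hAS (off_idx hc S hP M hAS hoff).1
  have hl' := off_line S hP M hAS' (off_idx hc S hP M hAS' hoff').1
  obtain ⟨⟨y, hy⟩, hye⟩ := hb'.2 (M.e x₀ 0 0)
  have hye' : M.e y 0 0 = M.e x₀ 0 0 := hye
  have hx₀' : x₀ ∈ ⁅zl (S : Subgroup G) P, A⁆ := by rw [hcomm]; exact hx₀
  have hyX : y ∈ cj s X := by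
    rw [← hcj, hcomm] at hy
    exact hy
  have h1 := hl x₀ hx₀'
  have h2 := hl' y hy
  have he : M.e y = M.e x₀ := by
    funext i j
    rw [hone i 0]
    fin_cases j
    · exact hye'
    · show M.e y 0 1 = M.e x₀ 0 1
      rw [h1.2, h2.2]
  have hd : M.e (y * x₀⁻¹) = 0 := by
    rw [M.mul y h2.1 _ (inv_mem h1.1), he, ← M.mul _ h1.1 _ (inv_mem h1.1), mul_inv_cancel]
    exact Cfsg.Agent.Omega.All.HOne.nat_one M
  have hne : y * x₀⁻¹ ≠ 1 := by
    intro h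
    have h3 : y = x₀ := mul_inv_eq_one.1 h
    have h4 : x₀ ∈ X ⊓ cj s X := mem_inf.2 ⟨hx₀, h3 ▸ hyX⟩
    rw [D.X_inf, mem_bot] at h4
    exact hx₀1 h4
  have hyXX : y * x₀⁻¹ ∈ X ⊔ cj s X := mul_mem (mem_sup_right hyX) (mem_sup_left (inv_mem hx₀))
  refine nat_full hc S hP M D.S_Y (mul_mem h2.1 (inv_mem h1.1)) (hcen _ hyXX hne) hPY 0 ?_
  rw [hd]
  rfl

/-- **END**: `Y = G`. -/
theorem eq_top (hFF : FFThm.Stmt.{u}) (hc : IsCharacteristicTwoType G) (hAI : AllIn (S : Subgroup G))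
    (hF : Full (S : Subgroup G)) : Y = ⊤ := by
  apply hF
  intro L hL
  refine IsLoc.le_of_forall S hL (inf_le_right.trans
    ((normalizer_le_normalizer_zc _).trans (D.norm_zc hc))) fun P hP _ => ?_
  by_cases h : P ≤ normalizer (zc (S : Subgroup G) : Set G)
  · exact h.trans (D.norm_zc hc)
  · exact D.par_le hFF hc hAI ⟨hP, h⟩

end Dat

end Cfsg.Agent.Omega.IId.M4.Gr
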