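import Cfsg.Agent.Omega.All.HOneBase
import Cfsg.Agent.Omega.FFMutual

/-!
# WrMain4, section 7 (A), over `HOneDat.Side` for a 2-group `T` (`= S₁`) of index at most two in a Sylow group

`D : Side T Y C X Q U`, `C ≤ N_G(Q)`, `SylN S T X` : `T ≤ S`, `|S : T| ≤ 2`, `T` is a Sylow 2-subgroup of `N_G(X)`.

* `le_of_fld` : a `B`-invariant subgroup of `T ≤ N_G(B)` lies in `O₂(B)`;
* `SylN.o2_eq` : `O₂(C_G(x)) = Q` for `1 ≠ x ∈ X`; `SylN.cen_le`, `SylN.cen_le_X` : `C_G(x) ≤ N_G(Q) ≤ N_G(X)`.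
-/

set_option autoImplicit false

namespace Cfsg.Agent.Omega.IId.M4

open Subgroup Cfsg Cfsg.Agent.ZN Cfsg.Agent.Omega.MinPar Cfsg.Agent.Omega.Frame
open Cfsg.Agent.ZN.ChoiceBase (cj card_cj)
open Cfsg.Agent.Omega.All Cfsg.Agent.Omega.All.HOne
open Cfsg.Agent.MinSimple.VModule (le_o2 mem_zc zc_le zc_comm o2_le o2_isPGroup le_normalizer_o2)
open Cfsg.Agent.MinSimple.Basic (char2_centralizer)

universe u

variable {G : Type u} [Group G]

/-- A `B`-invariant subgroup of `T ≤ N_G(B)` lies in `O₂(B)`. -/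
theorem le_of_fld {T B Q O : Subgroup G} (hT : IsPGroup 2 T) (hTB : T ≤ normalizer (B : Set G))
    (hQ : ∀ K : Subgroup G, IsPGroup 2 K → K ≤ B → B ≤ normalizer (K : Set G) → K ≤ Q)
    (hfld : ∀ t ∈ T, (∀ c ∈ B, t * c * t⁻¹ * c⁻¹ ∈ Q) → t ∈ Q) (hO : O ≤ T)
    (hBO : B ≤ normalizer (O : Set G)) : O ≤ Q := by
  intro t ht
  refine hfld t (hO ht) fun c hc => ?_
  have h2 : t * c * t⁻¹ * c⁻¹ ∈ B := mul_mem (conj_mem_of_normalizer (hTB (hO ht)) hc) (inv_mem hc)
  have h3 : t * c * t⁻¹ * c⁻¹ ∈ O := by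
    have e : t * c * t⁻¹ * c⁻¹ = t * (c * t⁻¹ * c⁻¹) := by group
    rw [e]
    exact mul_mem ht (conj_mem_of_normalizer (hBO hc) (inv_mem ht))
  refine hQ (O ⊓ B) ?_ inf_le_right ?_ ⟨h3, h2⟩
  · exact (hT.to_le hO).to_le inf_le_left
  · exact normalizer_inf_le hBO le_normalizer

/-- elements which normalise `B` from both sides -/
theorem mem_normalizer_of_inv {B : Subgroup G} {w : G} (h1 : ∀ b ∈ B, w * b * w⁻¹ ∈ B)
    (h2 : ∀ b ∈ B, w⁻¹ * b * w ∈ B) : w ∈ normalizer (B : Set G) := by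
  rw [mem_normalizer_iff]
  intro b
  refine ⟨h1 b, fun hb => ?_⟩
  have h3 := h2 _ hb
  have e : w⁻¹ * (w * b * w⁻¹) * w = b := by group
  rwa [e] at h3

/-- `N_G(B)` normalises the largest normal 2-subgroup `Q` of `B`. -/
theorem normalizer_le_of_max {B Q : Subgroup G} (hQ : IsPGroup 2 Q) (hQB : Q ≤ B)
    (hBQ : B ≤ normalizer (Q : Set G))
    (hmax : ∀ K : Subgroup G, IsPGroup 2 K → K ≤ B → B ≤ normalizer (K : Set G) → K ≤ Q) :
    normalizer (B : Set G) ≤ normalizer (Q : Set G) := by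
  refine le_normalizer_of fun g hg x hx => ?_
  have h1 : cj g Q ≤ Q := by
    refine hmax _ (hQ.map _) ?_ ?_
    · rintro _ ⟨y, hy, rfl⟩
      exact conj_mem_of_normalizer hg (hQB hy)
    · refine le_normalizer_of fun b hb y hy => ?_
      obtain ⟨w, hw, rfl⟩ := hy
      refine ⟨_, conj_mem_of_normalizer (hBQ (conj_mem_of_normalizer' hg hb)) hw, ?_⟩
      show g * ((g⁻¹ * b * g) * w * (g⁻¹ * b * g)⁻¹) * g⁻¹ = b * (g * w * g⁻¹) * b⁻¹
      group
  exact h1 ⟨x, hx, rfl⟩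

/-- `T` is a Sylow 2-subgroup of `N_G(X)`, of index at most two in the Sylow 2-subgroup `S` of `G`. -/
structure SylN (S T X : Subgroup G) : Prop where
  le : T ≤ S
  card : Nat.card S ≤ 2 * Nat.card T
  max : ∀ K : Subgroup G, IsPGroup 2 K → T ≤ K → K ≤ normalizer (X : Set G) → K ≤ T

namespace SylN

variable [Finite G] {S : Sylow 2 G} {T Y C X Q U : Subgroup G} (N : SylN (S : Subgroup G) T X)

include N

omit [Finite G] in
theorem isPGroup : IsPGroup 2 T := S.isPGroup'.to_le N.le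

/-- a 2-group over `T` -/
theorem relIndex_le {K : Subgroup G} (hK : IsPGroup 2 K) (hTK : T ≤ K) : T.relIndex K ≤ 2 := by
  obtain ⟨S', hS'⟩ := hK.exists_le_sylow
  have h1 : Nat.card K ≤ Nat.card S := by
    have h2 : Nat.card S' = Nat.card S := by rw [S'.card_eq_multiplicity, S.card_eq_multiplicity]
    rw [← h2]
    exact card_le_of_le hS'
  have h2 := relIndex_mul_relIndex ⊥ T K bot_le hTK
  rw [relIndex_bot_left, relIndex_bot_left, mul_comm] at h2
  have h3 : 0 < Nat.card T := Nat.card_pos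
  have h4 : T.relIndex K * Nat.card T ≤ 2 * Nat.card T := by
    rw [h2]
    exact h1.trans N.card
  exact Nat.le_of_mul_le_mul_right h4 h3

/-- A 2-group `O` normalised by `T`: an element which normalises `O` and `O ∩ T` centralises `O / (O ∩ T)`. -/
theorem comm_mem {O : Subgroup G} (hO : IsPGroup 2 O) (hTO : T ≤ normalizer (O : Set G)) {c w : G}
    (hc : c ∈ normalizer (O : Set G)) (hcT : c ∈ normalizer ((O ⊓ T : Subgroup G) : Set G)) (hw : w ∈ O) :
    c * w * c⁻¹ * w⁻¹ ∈ O ⊓ T := by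
  have hK : IsPGroup 2 ↥(O ⊔ T) := hO.to_sup_of_normal_left' N.isPGroup hTO
  have h1 : T.relIndex O ≤ 2 := by
    refine (relIndex_le_of_le_right le_sup_left ?_).trans (N.relIndex_le hK le_sup_right)
    exact (T.subgroupOf (O ⊔ T)).index_ne_zero_of_finite
  have h2 : T.relIndex O ∣ 2 := by
    have h3 : T.relIndex O ≠ 0 := (T.subgroupOf O).index_ne_zero_of_finite
    have h4 : T.relIndex O = 1 ∨ T.relIndex O = 2 := by omega
    rcases h4 with h4 | h4 <;> rw [h4]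
    exact one_dvd 2
  obtain ⟨a, ha, hab⟩ := relIndex_dvd_two_iff.1 h2
  have hwO := inv_mem hw
  have hcw : c * w⁻¹⁻¹ * c⁻¹ ∈ O := conj_mem_of_normalizer hc (inv_mem hwO)
  rw [inv_inv] at hcw
  refine mem_inf.2 ⟨mul_mem hcw hwO, ?_⟩
  by_cases hwT : w ∈ T
  · have h3 := conj_mem_of_normalizer hcT (x := w) ⟨hw, hwT⟩
    exact mul_mem h3.2 (inv_mem hwT)
  · have h3 : w * a ∈ T := (hab w hw).resolve_right hwT
    have h4 : c * w * c⁻¹ * a ∈ T := by
      refine (hab _ hcw).resolve_right fun h5 => hwT ?_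
      have h6 := conj_mem_of_normalizer' hcT (x := c * w * c⁻¹) ⟨hcw, h5⟩
      have e : c⁻¹ * (c * w * c⁻¹) * c = w := by group
      rw [e] at h6
      exact h6.2
    have e : c * w * c⁻¹ * w⁻¹ = (c * w * c⁻¹ * a) * (w * a)⁻¹ := by group
    rw [e]
    exact mul_mem h4 (inv_mem h3)

variable (D : Side T Y C X Q U) (hCQ : C ≤ normalizer (Q : Set G))
include D

omit [Finite G] N in
theorem Q_isPGroup (hT : IsPGroup 2 T) : IsPGroup 2 Q := hT.to_le D.Q_S

/-- an element `≠ 1` of `X` centralised by `T` -/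
theorem exists_z : ∃ z ∈ zc T, z ∈ X ∧ z ≠ 1 := by
  have hf : Fact (Nat.Prime 2) := ⟨Nat.prime_two⟩
  refine exists_zc_mem N.isPGroup D.X_S D.S_X (fun x hx => ?_) D.X_ne
  have h1 := D.X_el.2 x hx
  rwa [pow_two] at h1

include hCQ

/-- **(A)** for an element centralised by `T`. -/
theorem o2_eq_zc (hc : IsCharacteristicTwoType G) {z : G} (hz : ∀ t ∈ T, t * z = z * t) (hX : z ∈ X)
    (h1 : z ≠ 1) : o2 (centralizer ({z} : Set G)) = Q := by
  set H := centralizer ({z} : Set G) with hH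
  set O := o2 H with hO
  have hTH : T ≤ H := fun t ht => mem_centralizer_singleton_iff.2 (hz t ht)
  have hHO : H ≤ normalizer (O : Set G) := le_normalizer_o2 _
  have hOp : IsPGroup 2 O := o2_isPGroup _
  have hTO := hTH.trans hHO
  have hC : C ≤ H := D.C_X.trans (centralizer_le (by
    intro w hw
    rw [Set.mem_singleton_iff] at hw
    rw [hw]; exact hX))
  have hCO := hC.trans hHO
  have hCX : C ≤ normalizer (X : Set G) := D.C_X.trans (centralizer_le_normalizer _)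
  -- `O ∩ N(X) = O ∩ T`
  have h2 : O ⊓ normalizer (X : Set G) = O ⊓ T := by
    apply le_antisymm
    · have h3 : IsPGroup 2 ↥(O ⊓ normalizer (X : Set G) ⊔ T) :=
        (hOp.to_le inf_le_left).to_sup_of_normal_left' N.isPGroup
          (normalizer_inf_le hTO (D.S_X.trans le_normalizer))
      exact le_inf inf_le_left (le_sup_left.trans (N.max _ h3 le_sup_right (sup_le inf_le_right D.S_X)))
    · exact inf_le_inf le_rfl D.S_X
  have h3 : C ≤ normalizer ((O ⊓ T : Subgroup G) : Set G) := by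
    rw [← h2]
    exact normalizer_inf_le hCO (hCX.trans le_normalizer)
  have h4 : O ⊓ T ≤ Q := le_of_fld N.isPGroup D.S_C D.Q_max D.fld inf_le_right h3
  -- `O` normalises `C`
  have h5 : O ≤ normalizer (C : Set G) := by
    have key : ∀ w ∈ O, ∀ c ∈ C, w * c * w⁻¹ ∈ C := by
      intro w hw c hcC
      have h6 := D.Q_C (h4 (N.comm_mem hOp hTO (hCO (inv_mem hcC)) (h3 (inv_mem hcC)) hw))
      have e : w * c * w⁻¹ = c * (c⁻¹ * w * c⁻¹⁻¹ * w⁻¹) := by group
      rw [e]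
      exact mul_mem hcC h6
    exact le_normalizer_of key
  have h6 : O ≤ normalizer (X : Set G) :=
    (h5.trans (normalizer_le_of_max (N.isPGroup.to_le D.Q_S) D.Q_C hCQ D.Q_max)).trans D.norm_Q_le
  have h7 : O ≤ Q := by
    have h8 : O = O ⊓ T := by rw [← h2, inf_of_le_left h6]
    rw [h8]; exact h4
  refine D.irr _ h7 hCO ?_
  exact le_trans (inf_le_inf (D.Q_C.trans hC) le_rfl) (char2_centralizer hc (by
    have := D.X_el.2 z hX
    rwa [pow_two] at this ⊢) h1)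

/-- **(A)**: `O₂(C_G(x)) = Q` for `1 ≠ x ∈ X`. -/
theorem o2_eq (hc : IsCharacteristicTwoType G) {x : G} (hx : x ∈ X) (h1 : x ≠ 1) :
    o2 (centralizer ({x} : Set G)) = Q := by
  obtain ⟨z, hz, hX, hz1⟩ := N.exists_z D
  obtain ⟨y, hy, h2, h3, h4⟩ := D.trans x hx z hX h1 hz1
  have h7 := N.o2_eq_zc D hCQ hc (fun t ht => (mem_zc.1 hz).2.1 t ht) hX hz1
  rw [← h4] at h7
  have key : ∀ (a g : G), (o2 (centralizer ({a} : Set G))).map (MulAut.conj g).toMonoidHom ≤
      o2 (centralizer ({g * a * g⁻¹} : Set G)) := by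
    intro a g
    refine le_o2 ?_ ((o2_isPGroup _).map _) ?_
    · rintro _ ⟨w, hw, rfl⟩
      exact normalizer_centralizer_singleton w (o2_le _ hw)
    · refine le_normalizer_of fun l hl w hw => ?_
      obtain ⟨v, hv, rfl⟩ := hw
      have h8 : g⁻¹ * l * g ∈ centralizer ({a} : Set G) := by
        have := normalizer_centralizer_singleton (g := g⁻¹) l hl
        have e : g⁻¹ * (g * a * g⁻¹) * g⁻¹⁻¹ = a := by group
        rwa [e, inv_inv] at this
      refine ⟨_, conj_mem_of_normalizer (le_normalizer_o2 _ h8) hv, ?_⟩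
      show g * ((g⁻¹ * l * g) * v * (g⁻¹ * l * g)⁻¹) * g⁻¹ = l * (g * v * g⁻¹) * l⁻¹
      group
  apply le_antisymm
  · intro w hw
    have h8 := key x y ⟨w, hw, rfl⟩
    rw [h7] at h8
    have h9 := conj_mem_of_normalizer' h3 h8
    have e : y⁻¹ * ((MulAut.conj y).toMonoidHom w) * y = w := by
      show y⁻¹ * (y * w * y⁻¹) * y = w
      group
    rwa [e] at h9
  · intro w hw
    have h8 := conj_mem_of_normalizer h3 hw
    rw [← h7] at h8
    have h9 := key (y * x * y⁻¹) y⁻¹ ⟨_, h8, rfl⟩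
    have e : y⁻¹ * (y * x * y⁻¹) * y⁻¹⁻¹ = x := by group
    rw [e] at h9
    have e2 : (MulAut.conj y⁻¹).toMonoidHom (y * w * y⁻¹) = w := by
      show y⁻¹ * (y * w * y⁻¹) * y⁻¹⁻¹ = w
      group
    rwa [e2] at h9

/-- **(A)**: `C_G(x) ≤ N_G(Q)` for `1 ≠ x ∈ X`. -/
theorem cen_le (hc : IsCharacteristicTwoType G) {x : G} (hx : x ∈ X) (h1 : x ≠ 1) :
    centralizer ({x} : Set G) ≤ normalizer (Q : Set G) := by
  rw [← N.o2_eq D hCQ hc hx h1]
  exact le_normalizer_o2 _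

/-- **(A)**: `C_G(x) ≤ N_G(X)` for `1 ≠ x ∈ X`. -/
theorem cen_le_X (hc : IsCharacteristicTwoType G) {x : G} (hx : x ∈ X) (h1 : x ≠ 1) :
    centralizer ({x} : Set G) ≤ normalizer (X : Set G) := (N.cen_le D hCQ hc hx h1).trans D.norm_Q_le

end SylN

end Cfsg.Agent.Omega.IId.M4
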